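/-
Vectors symmetrical under an involution of the positions twisted by a field involution, and their characters.
-/
import Cfsg.Agent.Lib.Lie.ReeRepBasic
import Cfsg.Agent.Lib.MinDegree.Heis.Char

set_option autoImplicit false

namespace Cfsg.Agent.TwSpec

open LinearMap Module

/-- An involution of the positions with signs and an involution of the field. -/
structure Fr (K : Type*) [Field K] (m : ℕ) where
  fr : K →+* K
  fr_fr : ∀ t, fr (fr t) = t
  ex : ∃ t, fr t ≠ t
  τ : Fin m → Fin m
  τ_τ : ∀ i, τ (τ i) = i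
  z : Fin m → ℤ
  z_sq : ∀ i, z i * z i = 1
  z_τ : ∀ i, z (τ i) = z i
  z_fix : ∀ i, τ i = i → z i = 1

namespace Fr

variable {K : Type*} [Field K] {m : ℕ} (P : Fr K m)

/-- the parameters allowed at a position -/
def Ok (i : Fin m) (t : K) : Prop := P.τ i = i → P.fr t = t

/-- the symmetrical vectors -/
def Vs : AddSubgroup (Fin m → K) where
  carrier := {v | ∀ i, v (P.τ i) = (P.z i : K) * P.fr (v i)}
  zero_mem' i := by simp
  add_mem' {a b} ha hb i := by
    simp only [Pi.add_apply, map_add, mul_add]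
    rw [ha i, hb i]
  neg_mem' {a} ha i := by
    simp only [Pi.neg_apply, map_neg, mul_neg]
    rw [ha i]

theorem mem_Vs {v : Fin m → K} : v ∈ P.Vs ↔ ∀ i, v (P.τ i) = (P.z i : K) * P.fr (v i) := Iff.rfl

theorem z_mul (i : Fin m) : (P.z i : K) * (P.z i : K) = 1 := by
  rw [← Int.cast_mul, P.z_sq, Int.cast_one]

theorem fix_of_mem {v : Fin m → K} (hv : v ∈ P.Vs) {i : Fin m} (hi : P.τ i = i) : P.fr (v i) = v i := by
  have := (P.mem_Vs.1 hv) i
  rw [hi, P.z_fix i hi, Int.cast_one, one_mul] at this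
  exact this.symm

theorem zero_of_τ {v : Fin m → K} (hv : v ∈ P.Vs) {i : Fin m} (hi : v i = 0) : v (P.τ i) = 0 := by
  rw [P.mem_Vs.1 hv i, hi, map_zero, mul_zero]

/-- the vector of an orbit -/
def orbV (i : Fin m) (t : K) : Fin m → K := fun j =>
  if j = i then t else if j = P.τ i then (P.z i : K) * P.fr t else 0

theorem orbV_self (i : Fin m) (t : K) : P.orbV i t i = t := by simp [orbV]

theorem orbV_mem {i : Fin m} {t : K} (h : P.Ok i t) : P.orbV i t ∈ P.Vs := by
  intro j
  by_cases hj : j = i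
  · subst hj
    rw [orbV_self]
    by_cases hf : P.τ j = j
    · rw [hf, orbV_self, P.z_fix j hf, Int.cast_one, one_mul, h hf]
    · rw [orbV, if_neg hf, if_pos rfl]
  by_cases hj' : j = P.τ i
  · subst hj'
    rw [P.τ_τ, orbV_self, orbV, if_neg hj, if_pos rfl, map_mul, map_intCast, P.fr_fr, P.z_τ, ← mul_assoc,
      P.z_mul, one_mul]
  have h1 : P.τ j ≠ i := fun e => hj' (by rw [← e, P.τ_τ])
  have h2 : P.τ j ≠ P.τ i := fun e => hj (by rw [← P.τ_τ j, e, P.τ_τ])
  simp [orbV, hj, hj', h1, h2]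

/-- the pairing -/
def pair (L v : Fin m → K) : K := ∑ i, L i * v i

theorem pair_orbV {L : Fin m → K} (hL : L ∈ P.Vs) (i : Fin m) (t : K) :
    pair L (P.orbV i t) = L i * t + if P.τ i = i then 0 else P.fr (L i * t) := by
  have hz : ∀ j ∈ (Finset.univ : Finset (Fin m)), j ∉ ({i, P.τ i} : Finset (Fin m)) → L j * P.orbV i t j = 0 := by
    intro j _ hj
    simp only [Finset.mem_insert, Finset.mem_singleton, not_or] at hj
    simp [orbV, hj.1, hj.2]
  rw [pair, ← Finset.sum_subset (Finset.subset_univ ({i, P.τ i} : Finset (Fin m))) hz]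
  by_cases hf : P.τ i = i
  · rw [hf, if_pos rfl, Finset.pair_eq_singleton, Finset.sum_singleton, orbV_self, add_zero]
  · rw [Finset.sum_pair (Ne.symm hf), orbV_self, if_neg hf, P.mem_Vs.1 hL i, orbV, if_neg hf, if_pos rfl,
      map_mul]
    linear_combination (P.fr (L i) * P.fr t) * P.z_mul i

theorem exists_trace_one : ∃ s, s + P.fr s = 1 := by
  have hne : ∃ s, s + P.fr s ≠ 0 := by
    by_contra h
    push Not at h
    have h1 := h 1
    rw [map_one] at h1
    obtain ⟨t, ht⟩ := P.ex
    refine ht ?_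
    have := h t
    linear_combination this - t * h1
  obtain ⟨s, hs⟩ := hne
  refine ⟨s / (s + P.fr s), ?_⟩
  have hfix : P.fr (s + P.fr s) = s + P.fr s := by rw [map_add, P.fr_fr, add_comm]
  rw [map_div₀, hfix, ← add_div, div_self hs]

theorem exists_pair_one {L : Fin m → K} (hL : L ∈ P.Vs) {i : Fin m} (hi : L i ≠ 0) :
    ∃ v ∈ P.Vs, pair L v = 1 := by
  obtain ⟨s, hs⟩ := P.exists_trace_one
  by_cases hf : P.τ i = i
  · refine ⟨P.orbV i (L i)⁻¹, P.orbV_mem (fun _ => by rw [map_inv₀, P.fix_of_mem hL hf]), ?_⟩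
    rw [P.pair_orbV hL, if_pos hf, add_zero, mul_inv_cancel₀ hi]
  · refine ⟨P.orbV i (s / L i), P.orbV_mem (fun e => absurd e hf), ?_⟩
    rw [P.pair_orbV hL, if_neg hf, mul_div_cancel₀ _ hi, hs]

variable (ψ : AddChar K ℂ)

/-- the character of a symmetrical vector -/
def chi (L : Fin m → K) : AddChar P.Vs ℂ where
  toFun v := ψ (pair L v)
  map_zero_eq_one' := by simp [pair]
  map_add_eq_mul' v w := by
    rw [← AddChar.map_add_eq_mul, pair, pair, pair, ← Finset.sum_add_distrib]
    refine congrArg ψ (Finset.sum_congr rfl fun i _ => ?_)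
    simp [mul_add]

theorem chi_apply (L : Fin m → K) (v : P.Vs) : P.chi ψ L v = ψ (pair L v) := rfl

variable [Fintype K] [DecidableEq K]

noncomputable instance instFintypeVs : Fintype P.Vs := Fintype.ofFinite _

variable {ψ} (hψ : ψ 1 ≠ 1)

include hψ in
theorem chi_bijective : Function.Bijective fun L : P.Vs => P.chi ψ L := by
  refine (Fintype.bijective_iff_injective_and_card _).2 ⟨fun L L' e => ?_, AddChar.card_eq.symm⟩
  by_contra hne
  have hD : (L : Fin m → K) - L' ∈ P.Vs := sub_mem L.2 L'.2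
  obtain ⟨i, hi⟩ : ∃ i, ((L : Fin m → K) - L') i ≠ 0 := by
    by_contra h
    push Not at h
    exact hne (Subtype.ext (sub_eq_zero.1 (funext h)))
  obtain ⟨v, hv, h1⟩ := P.exists_pair_one hD hi
  have e' := DFunLike.congr_fun e ⟨v, hv⟩
  simp only [chi_apply] at e'
  refine hψ ?_
  have : pair (L : Fin m → K) v = 1 + pair (L' : Fin m → K) v := by
    rw [← h1, pair, pair, pair, ← Finset.sum_add_distrib]
    exact Finset.sum_congr rfl fun j _ => by simp [sub_mul]
  rw [this, AddChar.map_add_eq_mul] at e'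
  refine (mul_eq_right₀ (fun h => ?_)).1 e'
  have h' := ψ.map_add_eq_mul (pair (L' : Fin m → K) v) (-pair (L' : Fin m → K) v)
  rw [add_neg_cancel, AddChar.map_zero_eq_one, h, zero_mul] at h'
  exact one_ne_zero h'

variable (ψ) in
variable {W : Type*} [AddCommGroup W] [Module ℂ W] in
/-- the multiplicity of a symmetrical vector -/
noncomputable def mu (R : AddChar P.Vs (Module.End ℂ W)) (L : Fin m → K) : ℕ := ReeRep.mult R (P.chi ψ L)

variable {W : Type*} [AddCommGroup W] [Module ℂ W] [FiniteDimensional ℂ W]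

include hψ in
theorem sum_mu (R : AddChar P.Vs (Module.End ℂ W)) : ∑ L : P.Vs, P.mu ψ R L = finrank ℂ W := by
  rw [← ReeRep.sum_mult R]
  exact Function.Bijective.sum_comp (P.chi_bijective hψ) fun χ => ReeRep.mult R χ

theorem mu_conj {R : AddChar P.Vs (Module.End ℂ W)} {g g' : Module.End ℂ W} (A : P.Vs →+ P.Vs)
    (hA : Function.Bijective A) (hg : g * g' = 1) (h : ∀ v, g' * R (A v) * g = R v)
    {L L' : Fin m → K} (hL : ∀ v : P.Vs, pair L (A v : Fin m → K) = pair L' v) :
    P.mu ψ R L' = P.mu ψ R L := by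
  unfold mu
  rw [show P.chi ψ L' = (P.chi ψ L).compAddMonoidHom A from DFunLike.ext _ _ fun v => by
    rw [AddChar.compAddMonoidHom_apply, chi_apply, chi_apply, hL]]
  exact ReeRep.mult_conj (c := A) hA h hg _

/-! ### counting -/

/-- the symmetrical vectors supported on a set of positions -/
abbrev Sup (S : Finset (Fin m)) : Type _ := {L : Fin m → K // L ∈ P.Vs ∧ ∀ i, i ∉ S → L i = 0}

omit [DecidableEq K] in
theorem card_sup {q : ℕ} (hK : Fintype.card K = q ^ 2) (hF : Nat.card {t : K // P.fr t = t} = q) :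
    ∀ S : Finset (Fin m), (∀ i ∈ S, P.τ i ∈ S) → Nat.card (P.Sup S) = q ^ S.card := by
  intro S
  induction S using Finset.strongInduction with
  | H S ih =>
    intro hS
    rcases S.eq_empty_or_nonempty with rfl | ⟨i, hi⟩
    · letI : Unique (P.Sup ∅) :=
        ⟨⟨⟨0, zero_mem _, fun _ _ => rfl⟩⟩, fun L => Subtype.ext (funext fun j => L.2.2 j (by simp))⟩
      rw [Nat.card_unique, Finset.card_empty, pow_zero]
    obtain ⟨S', hS'⟩ : ∃ S', S' = S \ {i, P.τ i} := ⟨_, rfl⟩
    have hsub : S' ⊂ S := by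
      rw [hS']
      refine Finset.sdiff_ssubset ?_ ⟨i, by simp⟩
      simp [Finset.insert_subset_iff, hi, hS i hi]
    have hS'τ : ∀ j ∈ S', P.τ j ∈ S' := by
      intro j hj
      simp only [hS', Finset.mem_sdiff, Finset.mem_insert, Finset.mem_singleton, not_or] at hj ⊢
      exact ⟨hS j hj.1, fun e => hj.2.2 (by rw [← e, P.τ_τ]), fun e => hj.2.1 (by rw [← P.τ_τ j, e, P.τ_τ])⟩
    let e : P.Sup S ≃ {t : K // P.Ok i t} × P.Sup S' :=
      { toFun := fun L => (⟨L.1 i, fun hf => P.fix_of_mem L.2.1 hf⟩,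
          ⟨L.1 - P.orbV i (L.1 i), sub_mem L.2.1 (P.orbV_mem fun hf => P.fix_of_mem L.2.1 hf), fun j hj => by
            simp only [hS', Finset.mem_sdiff, Finset.mem_insert, Finset.mem_singleton, not_and, not_not] at hj
            by_cases h1 : j = i
            · subst h1; simp [orbV]
            by_cases h2 : j = P.τ i
            · subst h2; simp [orbV, h1, P.mem_Vs.1 L.2.1 i]
            · simp [orbV, h1, h2, L.2.2 j fun h => h2 ((hj h).resolve_left h1)]⟩)
        invFun := fun p => ⟨p.2.1 + P.orbV i p.1.1, add_mem p.2.2.1 (P.orbV_mem p.1.2), fun j hj => by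
          have h1 : j ≠ i := fun e => hj (e ▸ hi)
          have h2 : j ≠ P.τ i := fun e => hj (e ▸ hS i hi)
          simp [orbV, h1, h2, p.2.2.2 j fun h => hj ((Finset.sdiff_subset) (hS' ▸ h))]⟩
        left_inv := fun L => Subtype.ext (sub_add_cancel L.1 (P.orbV i (L.1 i)))
        right_inv := fun p => by
          have h0 : p.2.1 i = 0 := p.2.2.2 i (by simp [hS'])
          refine Prod.ext (Subtype.ext (by simp [orbV_self, h0])) (Subtype.ext ?_)
          funext j
          simp [orbV_self, h0] }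
    rw [Nat.card_congr e, Nat.card_prod, ih S' hsub hS'τ]
    by_cases hf : P.τ i = i
    · rw [Nat.card_congr (Equiv.subtypeEquivRight (fun t => show P.Ok i t ↔ P.fr t = t from
          ⟨fun h => h hf, fun h _ => h⟩)), hF, mul_comm, ← pow_succ]
      congr 1
      rw [hS', hf, Finset.pair_eq_singleton, Finset.sdiff_singleton_eq_erase, Finset.card_erase_of_mem hi]
      have := Finset.card_pos.2 ⟨i, hi⟩
      omega
    · rw [Nat.card_congr (Equiv.subtypeUnivEquiv (p := P.Ok i) (fun t (e : P.τ i = i) => absurd e hf)),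
        Nat.card_eq_fintype_card, hK, ← pow_add]
      congr 1
      have h2 : ({i, P.τ i} : Finset (Fin m)) ⊆ S := by simp [Finset.insert_subset_iff, hi, hS i hi]
      rw [hS', Finset.card_sdiff_of_subset h2, Finset.card_pair (Ne.symm hf)]
      have := Finset.card_le_card h2
      rw [Finset.card_pair (Ne.symm hf)] at this
      omega

/-! ### restriction to some positions -/

variable {m' : ℕ} (P' : Fr K m') (e : Fin m' → Fin m)

/-- a map of positions respecting the structures -/
structure Emb : Prop where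
  inj : Function.Injective e
  fr : P'.fr = P.fr
  τ : ∀ i, e (P'.τ i) = P.τ (e i)
  z : ∀ i, P.z (e i) = P'.z i

variable {P P' e} (he : P.Emb P' e)

/-- extension by zero -/
noncomputable def ext : P'.Vs →+ P.Vs where
  toFun v := ⟨Function.extend e (v : Fin m' → K) 0, fun i => by
    by_cases h : ∃ j, e j = i
    · obtain ⟨j, rfl⟩ := h
      rw [← he.τ, he.inj.extend_apply, he.inj.extend_apply, he.z, ← he.fr]
      exact v.2 j
    · rw [Function.extend_apply' _ _ _ h, Function.extend_apply' _ _ _ ?_]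
      · simp
      · rintro ⟨j, hj⟩
        exact h ⟨P'.τ j, by rw [he.τ, hj, P.τ_τ]⟩⟩
  map_zero' := Subtype.ext (by
    funext i
    by_cases h : ∃ j, e j = i
    · obtain ⟨j, rfl⟩ := h
      simp [he.inj.extend_apply]
    · simp [Function.extend_apply' _ _ _ h])
  map_add' v w := Subtype.ext (by
    funext i
    by_cases h : ∃ j, e j = i
    · obtain ⟨j, rfl⟩ := h
      simp [he.inj.extend_apply]
    · simp [Function.extend_apply' _ _ _ h])

theorem ext_apply (v : P'.Vs) (j : Fin m') : (ext he v : Fin m → K) (e j) = (v : Fin m' → K) j :=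
  he.inj.extend_apply _ _ j

theorem pair_ext (L : Fin m → K) (v : P'.Vs) :
    pair L (ext he v : Fin m → K) = pair (fun j => L (e j)) (v : Fin m' → K) := by
  classical
  rw [pair, pair, ← Finset.sum_subset (Finset.subset_univ (Finset.univ.image e)) ?_,
    Finset.sum_image fun a _ b _ h => he.inj h]
  · exact Finset.sum_congr rfl fun j _ => by rw [ext_apply]
  · intro i _ hi
    rw [show (ext he v : Fin m → K) i = 0 from Function.extend_apply' _ _ _ fun ⟨j, hj⟩ =>
      hi (Finset.mem_image.2 ⟨j, Finset.mem_univ _, hj⟩), mul_zero]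

include he in
theorem comp_mem {L : Fin m → K} (hL : L ∈ P.Vs) : (fun j => L (e j)) ∈ P'.Vs := fun j => by
  show L (e (P'.τ j)) = _
  rw [he.τ, hL, he.z, he.fr]

include hψ in
theorem mu_restrict (R : AddChar P.Vs (Module.End ℂ W)) {D : Fin m' → K} (hD : D ∈ P'.Vs) :
    P'.mu ψ (R.compAddMonoidHom (ext he)) D =
      ∑ L ∈ (Finset.univ : Finset P.Vs).filter (fun L : P.Vs => (fun j => (L : Fin m → K) (e j)) = D), P.mu ψ R L := by
  classical
  unfold mu
  rw [Heis.mult_restrict (ext he) R, Finset.sum_filter, Finset.sum_filter]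
  refine (Fintype.sum_bijective _ (P.chi_bijective hψ) _ _ fun L => ?_).symm
  have hiff : (P.chi ψ L).compAddMonoidHom (ext he) = P'.chi ψ D ↔ (fun j => (L : Fin m → K) (e j)) = D := by
    rw [show (P.chi ψ L).compAddMonoidHom (ext he) = P'.chi ψ (fun j => (L : Fin m → K) (e j)) from
      DFunLike.ext _ _ fun v => by rw [AddChar.compAddMonoidHom_apply, chi_apply, chi_apply, pair_ext]]
    exact ⟨fun h => congrArg Subtype.val ((P'.chi_bijective hψ).1
      (a₁ := ⟨_, comp_mem he L.2⟩) (a₂ := ⟨D, hD⟩) h), fun h => by rw [h]⟩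
  simp only [hiff]

end Fr

end Cfsg.Agent.TwSpec
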