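/-
Moves of symmetrical vectors: shifts by the orbit of a root and monomial maps.
-/
import Cfsg.Agent.Lib.MinDegree.Tw.Sym

set_option autoImplicit false

namespace Cfsg.Agent.TwSpec

open LinearMap Module

/-- the shift of one slot -/
abbrev Slot (m : ℕ) := Fin m → Option (Fin m × ℤ)

/-- A shift: the parameter enters the three slots as `t`, its conjugate and their product. -/
structure Mv (m : ℕ) where
  fx : Bool
  s1 : Slot m
  s2 : Slot m
  s3 : Slot m

namespace Mv

/-- `k` is moved to `i` -/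
def Tg {m : ℕ} (M : Mv m) (k i : Fin m) : Prop :=
  (∃ C, M.s1 k = some (i, C)) ∨ (∃ C, M.s2 k = some (i, C)) ∨ ∃ C, M.s3 k = some (i, C)

/-- the targets of a position -/
def tgts {m : ℕ} (M : Mv m) (k : Fin m) : List (Fin m) :=
  (((M.s1 k).toList ++ (M.s2 k).toList) ++ (M.s3 k).toList).map Prod.fst

theorem mem_tgts {m : ℕ} {M : Mv m} {k i : Fin m} : i ∈ M.tgts k ↔ M.Tg k i := by
  simp [tgts, Tg, Option.mem_toList, Option.mem_def, or_assoc]

variable {K : Type*} [Field K] {m : ℕ} (P : Fr K m) (M : Mv m)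

/-- the value of a slot on a functional -/
def sl (S : Slot m) (c : K) (L : Fin m → K) (k : Fin m) : K :=
  (S k).elim 0 fun e => (e.2 : K) * c * L e.1

/-- the action on functionals -/
def tr (t : K) (L : Fin m → K) : Fin m → K := fun k =>
  L k + sl M.s1 t L k + sl M.s2 (P.fr t) L k + sl M.s3 (t * P.fr t) L k

/-- the value of a slot on a vector -/
def sv (S : Slot m) (c : K) : (Fin m → K) →+ (Fin m → K) where
  toFun v := ∑ k, (S k).elim 0 fun e => Pi.single e.1 ((e.2 : K) * c * v k)
  map_zero' := Finset.sum_eq_zero fun k _ => by cases S k <;> simp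
  map_add' v w := by
    rw [← Finset.sum_add_distrib]
    refine Finset.sum_congr rfl fun k _ => ?_
    cases S k <;> simp [mul_add, Pi.single_add]

/-- the action on vectors -/
def mv (t : K) : (Fin m → K) →+ (Fin m → K) :=
  AddMonoidHom.id _ + sv M.s1 t + sv M.s2 (P.fr t) + sv M.s3 (t * P.fr t)

theorem pair_sv (S : Slot m) (c : K) (L v : Fin m → K) :
    Fr.pair L (sv S c v) = Fr.pair (sl S c L) v := by
  simp only [Fr.pair, sv, AddMonoidHom.coe_mk, ZeroHom.coe_mk, Finset.sum_apply, Finset.mul_sum]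
  rw [Finset.sum_comm]
  refine Finset.sum_congr rfl fun k _ => ?_
  cases h : S k with
  | none => simp [sl, h]
  | some e =>
    simp only [sl, h, Option.elim_some, Pi.single_apply, mul_ite, mul_zero, Finset.sum_ite_eq', Finset.mem_univ,
      if_true]
    ring

theorem pair_mv (t : K) (L v : Fin m → K) : Fr.pair L (M.mv P t v) = Fr.pair (M.tr P t L) v := by
  have e : ∀ a b : Fin m → K, Fr.pair L (a + b) = Fr.pair L a + Fr.pair L b := fun a b => by
    simp only [Fr.pair, Pi.add_apply, mul_add, Finset.sum_add_distrib]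
  simp only [mv, AddMonoidHom.add_apply, AddMonoidHom.id_apply, e, pair_sv]
  simp only [Fr.pair, tr, add_mul, Finset.sum_add_distrib]

/-- a slot carried by the involution -/
def img (k : Fin m) (o : Option (Fin m × ℤ)) : Option (Fin m × ℤ) :=
  o.map fun e => (P.τ e.1, e.2 * P.z k * P.z e.1)

/-- compatibility with the involution -/
def Compat : Prop :=
  if M.fx then (∀ k, M.s2 k = none) ∧ (∀ k, M.s3 k = none) ∧ ∀ k, M.s1 (P.τ k) = img P k (M.s1 k)
  else (∀ k, M.s2 (P.τ k) = img P k (M.s1 k)) ∧ ∀ k, M.s3 (P.τ k) = img P k (M.s3 k)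

/-- the parameters of the shift -/
def Valid (t : K) : Prop := M.fx = true → P.fr t = t

variable {P} {M}

theorem img_img (k : Fin m) (o : Option (Fin m × ℤ)) : img P (P.τ k) (img P k o) = o := by
  cases o with
  | none => rfl
  | some e =>
    simp only [img, Option.map_some, P.τ_τ, P.z_τ]
    congr 2
    linear_combination e.2 * (P.z e.1 * P.z e.1) * P.z_sq k + e.2 * P.z_sq e.1

theorem Compat.s1τ (h : M.Compat P) (hfx : M.fx = false) (k : Fin m) : M.s1 (P.τ k) = img P k (M.s2 k) := by
  simp only [Compat, hfx, Bool.false_eq_true, if_false] at h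
  have e := h.1 (P.τ k)
  rw [P.τ_τ] at e
  have := congrArg (img P k) e
  rw [this]
  conv_lhs => rw [← img_img (P := P) (P.τ k) (M.s1 (P.τ k)), P.τ_τ]

theorem sl_τ {S S' : Slot m} {k : Fin m} (h : S' (P.τ k) = img P k (S k)) {L : Fin m → K} (hL : L ∈ P.Vs)
    (c : K) : sl S' (P.fr c) L (P.τ k) = (P.z k : K) * P.fr (sl S c L k) := by
  rw [sl, sl, h]
  cases S k with
  | none => simp [img]
  | some e =>
    simp only [img, Option.map_some, Option.elim_some, map_mul, map_intCast, Int.cast_mul, P.mem_Vs.1 hL e.1]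
    linear_combination ((e.2 : K) * (P.z k : K) * P.fr c * P.fr (L e.1)) * P.z_mul e.1

theorem tr_mem (h : M.Compat P) {t : K} (ht : M.Valid P t) {L : Fin m → K} (hL : L ∈ P.Vs) :
    M.tr P t L ∈ P.Vs := by
  intro k
  simp only [tr, map_add, mul_add, P.mem_Vs.1 hL k]
  cases hfx : M.fx
  · have h1 := h.s1τ hfx k
    simp only [Compat, hfx, Bool.false_eq_true, if_false] at h
    have e1 := sl_τ (c := P.fr t) h1 hL
    have e2 := sl_τ (c := t) (h.1 k) hL
    have e3 := sl_τ (c := t * P.fr t) (h.2 k) hL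
    rw [P.fr_fr] at e1
    rw [map_mul, P.fr_fr, mul_comm] at e3
    rw [e1, e2, e3]
    ring
  · simp only [Compat, hfx, if_true] at h
    obtain ⟨h2, h3, h1⟩ := h
    have e1 := sl_τ (c := t) (h1 k) hL
    rw [ht hfx] at e1
    rw [e1]
    simp [sl, h2, h3]

theorem sv_τ {S S' : Slot m} (h : ∀ k, S' (P.τ k) = img P k (S k)) {v : Fin m → K} (hv : v ∈ P.Vs) (c : K)
    (i : Fin m) : sv S' (P.fr c) v (P.τ i) = (P.z i : K) * P.fr (sv S c v i) := by
  simp only [sv, AddMonoidHom.coe_mk, ZeroHom.coe_mk, Finset.sum_apply, map_sum, Finset.mul_sum]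
  refine (Fintype.sum_bijective P.τ (Function.Involutive.bijective P.τ_τ) _ _ fun k => ?_).symm
  rw [h k]
  cases S k with
  | none => simp [img]
  | some e =>
    simp only [img, Option.map_some, Option.elim_some, Pi.single_apply]
    by_cases hi : i = e.1
    · subst hi
      rw [if_pos rfl, if_pos rfl, map_mul, map_mul, map_intCast, Int.cast_mul, Int.cast_mul, P.mem_Vs.1 hv k]
      linear_combination (-((e.2 : K) * (P.z e.1 : K) * P.fr c * P.fr (v k))) * P.z_mul k
    · rw [if_neg hi, if_neg (fun e' => hi (by rw [← P.τ_τ i, e', P.τ_τ])), map_zero, mul_zero]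

theorem mv_mem (h : M.Compat P) {t : K} (ht : M.Valid P t) {v : Fin m → K} (hv : v ∈ P.Vs) :
    M.mv P t v ∈ P.Vs := by
  intro i
  simp only [mv, AddMonoidHom.add_apply, AddMonoidHom.id_apply, Pi.add_apply, map_add, mul_add, P.mem_Vs.1 hv i]
  cases hfx : M.fx
  · have h1 := fun k => h.s1τ hfx k
    simp only [Compat, hfx, Bool.false_eq_true, if_false] at h
    have e1 := sv_τ h1 hv (P.fr t) i
    have e2 := sv_τ h.1 hv t i
    have e3 := sv_τ h.2 hv (t * P.fr t) i
    rw [P.fr_fr] at e1
    rw [map_mul, P.fr_fr, mul_comm] at e3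
    rw [e1, e2, e3]
    ring
  · simp only [Compat, hfx, if_true] at h
    obtain ⟨h2, h3, h1⟩ := h
    have e1 := sv_τ h1 hv t i
    rw [ht hfx] at e1
    rw [e1]
    simp [sv, h2, h3]

theorem sv_apply_zero {S : Slot m} {c : K} {v : Fin m → K} {i : Fin m}
    (h : ∀ k C, S k = some (i, C) → v k = 0) : sv S c v i = 0 := by
  simp only [sv, AddMonoidHom.coe_mk, ZeroHom.coe_mk, Finset.sum_apply]
  refine Finset.sum_eq_zero fun k _ => ?_
  cases e : S k with
  | none => simp
  | some p =>
    simp only [Option.elim_some, Pi.single_apply]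
    split_ifs with hi
    · rw [h k p.2 (by rw [e, hi]), mul_zero]
    · rfl

/-- no chain of three shifts -/
def Short (M : Mv m) : Prop := ∀ a b c, M.Tg a b → M.Tg b c → ∀ d, ¬ M.Tg c d

theorem mv_injective (hs : M.Short) (t : K) : Function.Injective (M.mv P t) := by
  refine (injective_iff_map_eq_zero _).2 fun d hd => ?_
  have key : ∀ i, d i ≠ 0 → ∃ k, M.Tg k i ∧ d k ≠ 0 := by
    intro i hi
    by_contra hno
    push Not at hno
    refine hi ?_
    have := congrFun hd i
    simp only [mv, AddMonoidHom.add_apply, AddMonoidHom.id_apply, Pi.add_apply] at this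
    rwa [sv_apply_zero fun k C e => hno k (Or.inl ⟨C, e⟩), sv_apply_zero fun k C e => hno k (Or.inr (Or.inl ⟨C, e⟩)),
      sv_apply_zero fun k C e => hno k (Or.inr (Or.inr ⟨C, e⟩)), add_zero, add_zero, add_zero] at this
  funext i
  by_contra hi
  obtain ⟨c, hc, hc0⟩ := key i hi
  obtain ⟨b, hb, hb0⟩ := key c hc0
  obtain ⟨a, ha, -⟩ := key b hb0
  exact hs a b c ha hb i hc

theorem tr_eq {t : K} {L : Fin m → K} {k : Fin m} (h : ∀ j ∈ M.tgts k, L j = 0) : M.tr P t L k = L k := by
  have e : ∀ (S : Slot m) (c : K), (∀ j C, S k = some (j, C) → L j = 0) → sl S c L k = 0 := by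
    intro S c hS
    unfold sl
    cases e : S k with
    | none => rfl
    | some p => simp [hS p.1 p.2 e]
  rw [tr, e _ _ fun j C hj => h j (mem_tgts.2 (Or.inl ⟨C, hj⟩)),
    e _ _ fun j C hj => h j (mem_tgts.2 (Or.inr (Or.inl ⟨C, hj⟩))),
    e _ _ fun j C hj => h j (mem_tgts.2 (Or.inr (Or.inr ⟨C, hj⟩))), add_zero, add_zero, add_zero]

/-- If the shifts fix a value, the shifted entries vanish. -/
theorem kill {L : Fin m → K} {k : Fin m} (hfx : M.fx = true → (M.s2 k = none ∧ M.s3 k = none))
    (hC : ∀ i C, (M.s1 k = some (i, C) ∨ M.s2 k = some (i, C) ∨ M.s3 k = some (i, C)) → (C : K) ≠ 0)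
    (h : ∀ t, M.Valid P t → M.tr P t L k = L k) : ∀ j ∈ M.tgts k, L j = 0 := by
  obtain ⟨a, ha⟩ : ∃ a : K, a = sl M.s1 1 L k := ⟨_, rfl⟩
  obtain ⟨b, hb⟩ : ∃ b : K, b = sl M.s2 1 L k := ⟨_, rfl⟩
  obtain ⟨c, hc⟩ : ∃ c : K, c = sl M.s3 1 L k := ⟨_, rfl⟩
  have hlin : ∀ (S : Slot m) (x : K), sl S x L k = x * sl S 1 L k := fun S x => by
    unfold sl; cases S k <;> simp <;> ring
  have hf : ∀ t, M.Valid P t → t * a + P.fr t * b + t * P.fr t * c = 0 := fun t ht => by
    have := h t ht
    rw [tr, hlin M.s1, hlin M.s2, hlin M.s3, ← ha, ← hb, ← hc] at this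
    linear_combination this
  have habc : a = 0 ∧ b = 0 ∧ c = 0 := by
    cases hf' : M.fx
    · have hv : ∀ t, M.Valid P t := fun t e => by rw [hf'] at e; exact absurd e Bool.false_ne_true
      have hg := fun t => hf t (hv t)
      have hc0 : c = 0 := by
        by_contra hc0
        obtain ⟨s, hs⟩ := P.exists_trace_one
        have e1 := hg (s + 1)
        have e2 := hg s
        have e3 := hg 1
        rw [map_add, map_one] at e1
        rw [map_one] at e3
        exact hc0 (by linear_combination e1 - e2 - e3 - c * hs)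
      subst hc0
      have e1 := hg 1
      rw [map_one] at e1
      obtain ⟨t, ht⟩ := P.ex
      have e2 := hg t
      have : a * (t - P.fr t) = 0 := by linear_combination e2 - P.fr t * e1
      have ha0 : a = 0 := (mul_eq_zero.1 this).resolve_right (fun e => ht (sub_eq_zero.1 e).symm)
      exact ⟨ha0, by linear_combination e1 - ha0, rfl⟩
    · obtain ⟨h2, h3⟩ := hfx hf'
      have e := hf 1 fun _ => map_one _
      have hb0 : b = 0 := by rw [hb, sl, h2, Option.elim_none]
      have hc0 : c = 0 := by rw [hc, sl, h3, Option.elim_none]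
      rw [hb0, hc0] at e
      exact ⟨by linear_combination e, hb0, hc0⟩
  intro j hj
  rcases mem_tgts.1 hj with ⟨C, e⟩ | ⟨C, e⟩ | ⟨C, e⟩
  · have := ha.symm.trans habc.1
    rw [sl, e, Option.elim_some, mul_one] at this
    exact (mul_eq_zero.1 this).resolve_left (hC _ _ (Or.inl e))
  · have := hb.symm.trans habc.2.1
    rw [sl, e, Option.elim_some, mul_one] at this
    exact (mul_eq_zero.1 this).resolve_left (hC _ _ (Or.inr (Or.inl e)))
  · have := hc.symm.trans habc.2.2
    rw [sl, e, Option.elim_some, mul_one] at this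
    exact (mul_eq_zero.1 this).resolve_left (hC _ _ (Or.inr (Or.inr e)))

end Mv

/-! ### monomial maps -/

/-- A monomial map. -/
structure Mo (K : Type*) (m : ℕ) where
  σ : Fin m → Fin m
  c : Fin m → K

namespace Mo

variable {K : Type*} [Field K] {m : ℕ} (P : Fr K m) (N : Mo K m)

/-- the action on functionals -/
def tr (L : Fin m → K) : Fin m → K := fun k => N.c k * L (N.σ k)

/-- the action on vectors -/
def mv : (Fin m → K) →+ (Fin m → K) where
  toFun v := ∑ k, Pi.single (N.σ k) (N.c k * v k)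
  map_zero' := Finset.sum_eq_zero fun k _ => by simp
  map_add' v w := by
    rw [← Finset.sum_add_distrib]
    exact Finset.sum_congr rfl fun k _ => by simp [mul_add, Pi.single_add]

/-- compatibility with the involution -/
structure Compat : Prop where
  bij : Function.Bijective N.σ
  ne : ∀ k, N.c k ≠ 0
  στ : ∀ k, N.σ (P.τ k) = P.τ (N.σ k)
  cτ : ∀ k, N.c (P.τ k) * (P.z (N.σ k) : K) = (P.z k : K) * P.fr (N.c k)

theorem pair_mv (L v : Fin m → K) : Fr.pair L (N.mv v) = Fr.pair (N.tr L) v := by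
  simp only [Fr.pair, mv, tr, AddMonoidHom.coe_mk, ZeroHom.coe_mk, Finset.sum_apply, Finset.mul_sum]
  rw [Finset.sum_comm]
  refine Finset.sum_congr rfl fun k _ => ?_
  simp only [Pi.single_apply, mul_ite, mul_zero, Finset.sum_ite_eq', Finset.mem_univ, if_true]
  ring

variable {P N} (h : N.Compat P)

include h in
theorem mv_apply (v : Fin m → K) (k : Fin m) : N.mv v (N.σ k) = N.c k * v k := by
  simp only [mv, AddMonoidHom.coe_mk, ZeroHom.coe_mk, Finset.sum_apply]
  rw [Finset.sum_eq_single k (fun k' _ hk => by simp [Pi.single_eq_of_ne (Ne.symm (fun e => hk (h.bij.1 e) : N.σ k' ≠ N.σ k))]) (by simp)]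
  simp

include h in
theorem mv_injective : Function.Injective N.mv := by
  refine (injective_iff_map_eq_zero _).2 fun d hd => funext fun k => ?_
  have := congrFun hd (N.σ k)
  rw [mv_apply h] at this
  exact (mul_eq_zero.1 this).resolve_left (h.ne k)

include h in
theorem mv_mem {v : Fin m → K} (hv : v ∈ P.Vs) : N.mv v ∈ P.Vs := by
  intro i
  obtain ⟨k, rfl⟩ := h.bij.2 i
  rw [← h.στ, mv_apply h, mv_apply h, P.mem_Vs.1 hv k, map_mul]
  have e := h.cτ k
  linear_combination (P.fr (v k) * (P.z k : K) * (P.z (N.σ k) : K)) * e -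
    (P.fr (v k) * N.c (P.τ k) * (P.z k : K)) * P.z_mul (N.σ k) +
    (P.fr (v k) * (P.z (N.σ k) : K) * P.fr (N.c k)) * P.z_mul k

include h in
theorem tr_mem {L : Fin m → K} (hL : L ∈ P.Vs) : N.tr L ∈ P.Vs := by
  intro k
  simp only [tr, h.στ, P.mem_Vs.1 hL (N.σ k), map_mul]
  linear_combination P.fr (L (N.σ k)) * h.cτ k

end Mo

end Cfsg.Agent.TwSpec
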