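/-
Multiplicities invariant under moves and determined by the values at some key positions.
-/
import Cfsg.Agent.Lib.MinDegree.Tw.Move

set_option autoImplicit false

namespace Cfsg.Agent.TwSpec

variable {K : Type*} [Field K] {m : ℕ} (P : Fr K m) (μ : (Fin m → K) → ℕ)

/-- moves which may be used -/
structure Usable (M : Mv m) : Prop where
  inv : ∀ t, M.Valid P t → ∀ L, μ (M.tr P t L) = μ L
  compat : M.Compat P
  hfx : ∀ k, M.fx = true → M.s2 k = none ∧ M.s3 k = none
  hC : ∀ k i C, (M.s1 k = some (i, C) ∨ M.s2 k = some (i, C) ∨ M.s3 k = some (i, C)) → (C : K) ≠ 0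

/-! ### reaching all keys from a base vector -/

/-- checks of the moves giving the key values -/
def reachOK (τ : Fin m → Fin m) (k0 : Fin m) (key A : List (Fin m)) (reps : List (Fin m × Mv m)) : Bool :=
  !key.contains k0 && !A.contains k0 && τ k0 == k0 && reps.all fun r =>
    key.contains r.1 && r.2.fx == (τ r.1 == r.1) &&
    ((r.2.s1 r.1).map Prod.fst == some k0) && r.2.s2 r.1 == none && r.2.s3 r.1 == none &&
    (r.2.tgts k0).isEmpty &&
    (key.all fun x => x == r.1 || x == τ r.1 || (r.2.tgts x).isEmpty) &&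
    (A.all fun a => (r.2.tgts a).all fun b => A.contains b)

/-- the positions covered by representatives of orbits -/
def cover (τ : Fin m → Fin m) (reps : List (Fin m × Mv m)) (x : Fin m) : Bool :=
  reps.any fun r => x == r.1 || x == τ r.1

variable {P μ}

theorem reach {k0 : Fin m} {key A : List (Fin m)} {reps : List (Fin m × Mv m)}
    (hok : reachOK P.τ k0 key A reps = true) (hu : ∀ r ∈ reps, Usable P μ r.2) {D : Fin m → K} (hD : D ∈ P.Vs)
    (ha : D k0 ≠ 0) : ∃ L ∈ P.Vs, μ L = μ (P.orbV k0 (D k0)) ∧ L k0 = D k0 ∧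
      (∀ x ∈ key, L x = if cover P.τ reps x = true then D x else 0) ∧ ∀ a ∈ A, L a = 0 := by
  classical
  simp only [reachOK, Bool.and_eq_true, Bool.not_eq_true', List.contains_eq_mem, decide_eq_false_iff_not,
    beq_iff_eq, List.all_eq_true] at hok
  obtain ⟨⟨⟨hk, hA⟩, hτ⟩, hr⟩ := hok
  have hD0 : P.fr (D k0) = D k0 := P.fix_of_mem hD hτ
  induction reps with
  | nil =>
    refine ⟨P.orbV k0 (D k0), P.orbV_mem (fun _ => hD0), rfl, P.orbV_self _ _, fun x hx => ?_, fun a ha => ?_⟩
    · have h1 : x ≠ k0 := fun e => hk (e ▸ hx)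
      simp [cover, Fr.orbV, h1, hτ]
    · have h1 : a ≠ k0 := fun e => hA (e ▸ ha)
      simp [Fr.orbV, h1, hτ]
  | cons r rs ih =>
    obtain ⟨L, hL, hμ, h0, hkey, hz⟩ := ih (fun r' hr' => hu r' (List.mem_cons_of_mem _ hr'))
      fun r' hr' => hr r' (List.mem_cons_of_mem _ hr')
    obtain ⟨j, M⟩ := r
    have hrj := hr (j, M) List.mem_cons_self
    simp only [Bool.and_eq_true, List.contains_eq_mem, decide_eq_true_eq, List.all_eq_true, Bool.or_eq_true,
      beq_iff_eq, List.isEmpty_iff] at hrj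
    obtain ⟨⟨⟨⟨⟨⟨⟨hj, hfx⟩, h1⟩, h2⟩, h3⟩, hk0⟩, hoth⟩, hcl⟩ := hrj
    have hM := hu (j, M) List.mem_cons_self
    obtain ⟨C, hC⟩ : ∃ C, M.s1 j = some (k0, C) := by
      cases e : M.s1 j with
      | none => simp [e] at h1
      | some p => simp only [e, Option.map_some, Option.some.injEq] at h1; exact ⟨p.2, by rw [← h1]⟩
    have hC0 : (C : K) ≠ 0 := hM.hC j k0 C (Or.inl hC)
    obtain ⟨t, ht⟩ : ∃ t : K, t = (D j - L j) / ((C : K) * D k0) := ⟨_, rfl⟩
    have hv : M.Valid P t := fun e => by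
      rw [hfx, beq_iff_eq] at e
      rw [ht, map_div₀, map_sub, P.fix_of_mem hD e, P.fix_of_mem hL e, map_mul, map_intCast, hD0]
    have hL' := Mv.tr_mem hM.compat hv hL
    refine ⟨_, hL', (hM.inv t hv L).trans hμ, ?_, fun x hx => ?_, fun a ha => ?_⟩
    · rw [Mv.tr_eq (by simp [hk0]), h0]
    · have hjv : M.tr P t L j = D j := by
        simp only [Mv.tr, Mv.sl, hC, h2, h3, Option.elim_some, Option.elim_none, add_zero, h0]
        rw [ht]
        field_simp
        ring
      simp only [cover, List.any_cons, Bool.or_eq_true, beq_iff_eq]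
      by_cases e : x = j ∨ x = P.τ j
      · rw [if_pos (Or.inl e)]
        rcases e with rfl | rfl
        · exact hjv
        · rw [P.mem_Vs.1 hL' j, P.mem_Vs.1 hD j, hjv]
      · push Not at e
        rw [Mv.tr_eq (fun y hy => by
          rcases hoth x hx with (h | h) | h
          · exact absurd h e.1
          · exact absurd h e.2
          · simp [h] at hy), hkey x hx]
        simp [cover, e.1, e.2]
    · rw [Mv.tr_eq (fun y hy => hz y (hcl a ha y hy)), hz a ha]

theorem const_on_key {k0 : Fin m} {key A : List (Fin m)} {reps : List (Fin m × Mv m)}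
    (hok : reachOK P.τ k0 key A reps = true) (hu : ∀ r ∈ reps, Usable P μ r.2)
    (hcov : ∀ x ∈ key, cover P.τ reps x = true) (hall : ∀ x, x = k0 ∨ x ∈ key ∨ x ∈ A) {D : Fin m → K}
    (hD : D ∈ P.Vs) (ha : D k0 ≠ 0) (hA : ∀ a ∈ A, D a = 0) : μ D = μ (P.orbV k0 (D k0)) := by
  obtain ⟨L, -, hμ, h0, hkey, hz⟩ := reach hok hu hD ha
  rw [← hμ]
  congr 1
  funext x
  rcases hall x with rfl | hx | hx
  · rw [h0]
  · rw [hkey x hx, if_pos (hcov x hx)]
  · rw [hA x hx, hz x hx]

/-! ### keys determining the vector -/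

section key

variable [Fintype K] [DecidableEq K]

/-- agreement on the key -/
def Agree (k0 : Fin m) (key : List (Fin m)) (D L : Fin m → K) : Prop := ∀ x ∈ k0 :: key, L x = D x

instance (k0 : Fin m) (key : List (Fin m)) (D L : Fin m → K) : Decidable (Agree k0 key D L) :=
  inferInstanceAs (Decidable (∀ x ∈ k0 :: key, L x = D x))

variable (P μ) in
/-- each key has total multiplicity one -/
def HKey (k0 : Fin m) (key : List (Fin m)) : Prop :=
  ∀ D ∈ P.Vs, D k0 ≠ 0 →
    ∑ L ∈ (Finset.univ : Finset P.Vs).filter (fun L : P.Vs => Agree k0 key D (L : Fin m → K)), μ L = 1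

variable {k0 : Fin m} {key : List (Fin m)} (hkey : HKey P μ k0 key)

include hkey in
theorem key_unique {L L' : Fin m → K} (hL : L ∈ P.Vs) (hL' : L' ∈ P.Vs) (h0 : L k0 ≠ 0)
    (hag : Agree k0 key L L') (h1 : μ L ≠ 0) (h2 : μ L' ≠ 0) : L' = L := by
  by_contra hne
  have hs := hkey L hL h0
  have hsub : ({⟨L, hL⟩, ⟨L', hL'⟩} : Finset P.Vs) ⊆
      Finset.univ.filter fun X : P.Vs => Agree k0 key L (X : Fin m → K) := by
    intro X hX
    simp only [Finset.mem_insert, Finset.mem_singleton] at hX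
    rcases hX with rfl | rfl
    · exact Finset.mem_filter.2 ⟨Finset.mem_univ _, fun _ _ => rfl⟩
    · exact Finset.mem_filter.2 ⟨Finset.mem_univ _, hag⟩
  have := Finset.sum_le_sum_of_subset (f := fun X : P.Vs => μ (X : Fin m → K)) hsub
  rw [hs, Finset.sum_pair (fun e => hne (congrArg Subtype.val e).symm)] at this
  simp only at this
  omega

include hkey in
theorem key_exists {D : Fin m → K} (hD : D ∈ P.Vs) (h0 : D k0 ≠ 0) :
    ∃ L ∈ P.Vs, Agree k0 key D L ∧ μ L ≠ 0 := by
  obtain ⟨L, hL, hne⟩ := Finset.exists_ne_zero_of_sum_ne_zero (ne_of_eq_of_ne (hkey D hD h0) one_ne_zero)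
  exact ⟨L, L.2, (Finset.mem_filter.1 hL).2, hne⟩

include hkey in
theorem mu_le_one {L : Fin m → K} (hL : L ∈ P.Vs) (h0 : L k0 ≠ 0) : μ L ≤ 1 := by
  rw [← hkey L hL h0]
  exact Finset.single_le_sum (f := fun X : P.Vs => μ (X : Fin m → K)) (fun _ _ => Nat.zero_le _)
    (a := (⟨L, hL⟩ : P.Vs)) (Finset.mem_filter.2 ⟨Finset.mem_univ _, fun _ _ => rfl⟩)

/-- forcing zeros in the vector of a key supported at the distinguished position -/
def killRun (τ : Fin m → Fin m) (k0 : Fin m) (key : List (Fin m)) :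
    List (Mv m × Fin m) → List (Fin m) → Bool
  | [], zero => (List.finRange m).all fun x => x == k0 || zero.contains x
  | (M, k) :: rest, zero =>
    ((k0 :: key).all fun x => (M.tgts x).all fun y => zero.contains y) &&
      killRun τ k0 key rest (M.tgts k ++ (M.tgts k).map τ ++ zero)

include hkey in
theorem base_aux : ∀ (ks : List (Mv m × Fin m)) (zero : List (Fin m)), killRun P.τ k0 key ks zero = true →
    (∀ s ∈ ks, Usable P μ s.1) → ∀ L ∈ P.Vs, L k0 ≠ 0 → μ L ≠ 0 → (∀ x ∈ zero, L x = 0) →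
      ∀ x, x ≠ k0 → L x = 0
  | [], zero, h, _, L, _, _, _, hz, x, hx => by
    simp only [killRun, List.all_eq_true, List.mem_finRange, forall_const, Bool.or_eq_true, beq_iff_eq,
      List.contains_eq_mem, decide_eq_true_eq] at h
    exact hz x ((h x).resolve_left hx)
  | (M, k) :: rest, zero, h, hu, L, hL, h0, hne, hz, x, hx => by
    simp only [killRun, Bool.and_eq_true, List.all_eq_true, List.contains_eq_mem, decide_eq_true_eq] at h
    obtain ⟨h1, h2⟩ := h
    have hM := hu (M, k) List.mem_cons_self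
    have hfix : ∀ t, M.Valid P t → M.tr P t L = L := fun t ht =>
      key_unique hkey hL (Mv.tr_mem hM.compat ht hL) h0 (fun y hy => Mv.tr_eq fun w hw => hz w (h1 y hy w hw)) hne
        (by rw [hM.inv t ht]; exact hne)
    have hk := Mv.kill (P := P) (M := M) (k := k) (hM.hfx k) (hM.hC k) fun t ht => congrFun (hfix t ht) k
    refine base_aux rest _ h2 (fun s hs => hu s (List.mem_cons_of_mem _ hs)) L hL h0 hne ?_ x hx
    intro y hy
    simp only [List.mem_append, List.mem_map] at hy
    rcases hy with (hy | ⟨w, hw, rfl⟩) | hy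
    · exact hk y hy
    · exact P.zero_of_τ hL (hk w hw)
    · exact hz y hy

include hkey in
/-- The base vector has multiplicity one. -/
theorem mu_base {ks : List (Mv m × Fin m)} (hks : killRun P.τ k0 key ks key = true)
    (hu : ∀ s ∈ ks, Usable P μ s.1) (hτ : P.τ k0 = k0) (hk : k0 ∉ key) {a : K} (ha : a ≠ 0) (hfa : P.fr a = a) :
    μ (P.orbV k0 a) = 1 := by
  have hmem := P.orbV_mem (i := k0) (t := a) fun _ => hfa
  have hz : ∀ x, x ≠ k0 → P.orbV k0 a x = 0 := fun x hx => by simp [Fr.orbV, hx, hτ]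
  obtain ⟨L, hL, hag, hne⟩ := key_exists hkey hmem (by rw [P.orbV_self]; exact ha)
  have h0 : L k0 = a := by rw [hag k0 List.mem_cons_self, P.orbV_self]
  have e : L = P.orbV k0 a := by
    funext x
    by_cases hx : x = k0
    · rw [hx, h0, P.orbV_self]
    · rw [hz x hx]
      exact base_aux hkey ks key hks hu L hL (h0 ▸ ha) hne
        (fun y hy => by rw [hag y (List.mem_cons_of_mem _ hy), hz y fun e => hk (e ▸ hy)]) x hx
  rw [e] at hne
  have := mu_le_one hkey hmem (by rw [P.orbV_self]; exact ha)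
  omega

/-! ### cells -/

/-- the vectors leading at a position -/
def Lead (i : Fin m) (L : Fin m → K) : Prop := L i ≠ 0 ∧ ∀ k, k < i → L k = 0

instance (i : Fin m) (L : Fin m → K) : Decidable (Lead i L) :=
  inferInstanceAs (Decidable (L i ≠ 0 ∧ ∀ k, k < i → L k = 0))

/-- checks of a cell of a fixed position -/
def cellOK (τ : Fin m → Fin m) (k0 : Fin m) (key : List (Fin m)) (σ : Fin m → Fin m) (i : Fin m)
    (A : List (Fin m)) (reps : List (Fin m × Mv m)) : Bool :=
  reachOK τ k0 key A reps && σ k0 == i && ((List.finRange m).all fun k => decide (σ k < i) == A.contains k) &&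
    ((List.finRange m).all fun k => !decide (k < i) || decide (τ k < i)) &&
    key.all fun x => A.contains x || cover τ reps x

/-- the free key positions of a cell -/
def freeSet (key A : List (Fin m)) : Finset (Fin m) := key.toFinset \ A.toFinset

include hkey in
theorem cell_sum (hbase : ∀ a, a ≠ 0 → P.fr a = a → μ (P.orbV k0 a) = 1) {q : ℕ} (hK : Fintype.card K = q ^ 2)
    (hF : Nat.card {t : K // P.fr t = t} = q) {N : Mo K m} (hN : N.Compat P) (hμN : ∀ L, μ (N.tr L) = μ L)
    {i : Fin m} {A : List (Fin m)} {reps : List (Fin m × Mv m)}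
    (hok : cellOK P.τ k0 key N.σ i A reps = true) (hu : ∀ r ∈ reps, Usable P μ r.2)
    (hτkey : ∀ x ∈ key, P.τ x ∈ key) :
    ∑ L ∈ (Finset.univ : Finset P.Vs).filter (fun L : P.Vs => Lead i (L : Fin m → K)), μ L =
      (q - 1) * q ^ (freeSet key A).card := by
  classical
  simp only [cellOK, Bool.and_eq_true, beq_iff_eq, List.all_eq_true, List.mem_finRange, forall_const,
    List.contains_eq_mem, Bool.or_eq_true, decide_eq_true_eq, Bool.not_eq_true', decide_eq_false_iff_not] at hok
  obtain ⟨⟨⟨⟨hr, hσ⟩, hA⟩, hlt⟩, hcov⟩ := hok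
  have hA' : ∀ k, N.σ k < i ↔ k ∈ A := fun k => by
    have := hA k
    simpa [decide_eq_decide] using this
  have hk0A : k0 ∉ A := fun h => lt_irrefl i (hσ ▸ (hA' k0).2 h)
  have hr' := hr
  simp only [reachOK, Bool.and_eq_true, Bool.not_eq_true', List.contains_eq_mem, decide_eq_false_iff_not,
    beq_iff_eq] at hr'
  have hk0key : k0 ∉ key := hr'.1.1.1
  have hτ : P.τ k0 = k0 := hr'.1.2
  have hAτ : ∀ a ∈ A, P.τ a ∈ A := fun a ha => by
    rw [← hA', hN.στ]
    exact (hlt _).resolve_left (not_not.2 ((hA' a).2 ha))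
  have hb : Function.Bijective fun L : P.Vs => (⟨N.tr L, Mo.tr_mem hN L.2⟩ : P.Vs) :=
    Finite.injective_iff_bijective.1 fun L L' e => Subtype.ext (funext fun k => by
      obtain ⟨j, rfl⟩ := hN.bij.2 k
      exact mul_left_cancel₀ (hN.ne j) (congrFun (congrArg Subtype.val e) j))
  have step1 : ∑ L ∈ (Finset.univ : Finset P.Vs).filter (fun L : P.Vs => Lead i (L : Fin m → K)), μ L =
      ∑ L ∈ (Finset.univ : Finset P.Vs).filter
        (fun L : P.Vs => (L : Fin m → K) k0 ≠ 0 ∧ ∀ a ∈ A, (L : Fin m → K) a = 0), μ L := by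
    rw [Finset.sum_filter, Finset.sum_filter]
    refine Fintype.sum_bijective _ hb _ _ fun L => ?_
    have hiff : Lead i (L : Fin m → K) ↔ N.tr L k0 ≠ 0 ∧ ∀ a ∈ A, N.tr L a = 0 := by
      simp only [Lead, Mo.tr, hσ, mul_ne_zero_iff, mul_eq_zero, hN.ne, false_or, ne_eq, not_false_eq_true, true_and]
      refine and_congr Iff.rfl ⟨fun h a ha => h _ ((hA' a).2 ha), fun h k hk => ?_⟩
      obtain ⟨j, rfl⟩ := hN.bij.2 k
      exact h j ((hA' j).1 hk)
    simp only [hiff, hμN]
  rw [step1]
  obtain ⟨S, hS⟩ : ∃ S, S = insert k0 (freeSet key A) := ⟨_, rfl⟩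
  have hSmem : ∀ x, x ∈ S ↔ x = k0 ∨ (x ∈ key ∧ x ∉ A) := fun x => by simp [hS, freeSet]
  have hSτ : ∀ x ∈ S, P.τ x ∈ S := by
    intro x hx
    rw [hSmem] at hx ⊢
    rcases hx with rfl | ⟨h1, h2⟩
    · exact Or.inl hτ
    · exact Or.inr ⟨hτkey x h1, fun h => h2 (by have := hAτ _ h; rwa [P.τ_τ] at this)⟩
  have hky : ∀ x, P.τ x ∈ k0 :: key ↔ x ∈ k0 :: key := fun x => by
    have key' : ∀ y, y ∈ k0 :: key → P.τ y ∈ k0 :: key := fun y hy => by
      simp only [List.mem_cons] at hy ⊢
      rcases hy with rfl | hy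
      · exact Or.inl hτ
      · exact Or.inr (hτkey y hy)
    exact ⟨fun h => by have := key' _ h; rwa [P.τ_τ] at this, key' x⟩
  let res : P.Vs → P.Vs := fun L => ⟨fun x => if x ∈ k0 :: key then (L : Fin m → K) x else 0, fun x => by
    by_cases hx : x ∈ k0 :: key
    · simp only; rw [if_pos hx, if_pos ((hky x).2 hx)]; exact L.2 x
    · simp only; rw [if_neg hx, if_neg (fun h => hx ((hky x).1 h)), map_zero, mul_zero]⟩
  obtain ⟨Ds, hDs⟩ : ∃ Ds, Ds = (Finset.univ : Finset P.Vs).filter
      (fun D : P.Vs => (D : Fin m → K) k0 ≠ 0 ∧ ∀ x, x ∉ S → (D : Fin m → K) x = 0) := ⟨_, rfl⟩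
  rw [← Finset.sum_fiberwise_of_maps_to (g := res) (t := Ds) ?maps]
  case maps =>
    intro L hL
    obtain ⟨h0, hz⟩ := (Finset.mem_filter.1 hL).2
    rw [hDs, Finset.mem_filter]
    refine ⟨Finset.mem_univ _, by simpa [res] using h0, fun x hx => ?_⟩
    simp only [res]
    split_ifs with hxk
    · rw [hSmem, not_or, not_and, not_not] at hx
      exact hz x (hx.2 ((List.mem_cons.1 hxk).resolve_left hx.1))
    · rfl
  rw [Finset.sum_congr rfl (g := fun _ => 1) fun D hD => ?fib, Finset.sum_const, smul_eq_mul, mul_one]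
  case fib =>
    rw [hDs, Finset.mem_filter] at hD
    obtain ⟨-, h0, hsupp⟩ := hD
    obtain ⟨L, hL, hμ, hLk, hLkey, hLz⟩ := reach hr hu D.2 h0
    have hag : Agree k0 key (D : Fin m → K) L := by
      intro x hx
      rcases List.mem_cons.1 hx with rfl | hx
      · exact hLk
      · rw [hLkey x hx]
        rcases hcov x hx with hxA | hxc
        · have hD0 : (D : Fin m → K) x = 0 := hsupp x fun h => by
            rw [hSmem] at h
            exact h.elim (fun e => hk0key (e ▸ hx)) fun h => h.2 hxA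
          simp [hD0]
        · rw [if_pos hxc]
    have hres : res ⟨L, hL⟩ = D := Subtype.ext (funext fun x => by
      simp only [res]
      split_ifs with hx
      · exact hag x hx
      · exact (hsupp x fun h => hx (by
          rw [hSmem] at h
          exact List.mem_cons.2 (h.imp id And.left))).symm)
    refine le_antisymm ?_ ?_
    · rw [← hkey D D.2 h0]
      refine Finset.sum_le_sum_of_subset fun X hX => ?_
      simp only [Finset.mem_filter, Finset.mem_univ, true_and] at hX ⊢
      intro x hx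
      rw [← hX.2]
      simp [res, hx]
    · have h1 : μ L = 1 := hμ.trans (hbase _ h0 (P.fix_of_mem D.2 hτ))
      rw [← h1]
      refine Finset.single_le_sum (f := fun X : P.Vs => μ (X : Fin m → K)) (fun _ _ => Nat.zero_le _)
        (a := (⟨L, hL⟩ : P.Vs)) (Finset.mem_filter.2 ⟨Finset.mem_filter.2 ⟨Finset.mem_univ _, ?_, hLz⟩, hres⟩)
      show L k0 ≠ 0
      rw [hLk]; exact h0
  have hk0F : k0 ∉ freeSet key A := by simp [freeSet, hk0key]
  have c1 := P.card_sup hK hF S hSτ
  have c2 := P.card_sup hK hF (freeSet key A) (fun x hx => by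
    have := hSτ x (hS ▸ Finset.mem_insert_of_mem hx)
    rw [hS, Finset.mem_insert] at this
    exact this.resolve_left fun e => hk0F (by rwa [← P.τ_τ x, e, hτ] at hx))
  have hsplit : Nat.card (P.Sup S) = Ds.card + Nat.card (P.Sup (freeSet key A)) := by
    rw [← Nat.card_congr (Equiv.sumCompl fun L : P.Sup S => L.1 k0 ≠ 0), Nat.card_sum]
    congr 1
    · rw [← Nat.card_eq_finsetCard]
      exact Nat.card_congr
        { toFun := fun L => ⟨⟨L.1.1, L.1.2.1⟩, by
              rw [hDs, Finset.mem_filter]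
              exact ⟨Finset.mem_univ _, L.2, L.1.2.2⟩⟩
          invFun := fun D => ⟨⟨D.1.1, D.1.2, fun x hx => by
              have := D.2; simp only [hDs, Finset.mem_filter] at this; exact this.2.2 x hx⟩,
            by have := D.2; simp only [hDs, Finset.mem_filter] at this; exact this.2.1⟩
          left_inv := fun L => rfl
          right_inv := fun D => rfl }
    · exact Nat.card_congr
        { toFun := fun L => ⟨L.1.1, L.1.2.1, fun x hx => by
              by_cases e : x = k0
              · subst e; exact not_not.1 L.2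
              · exact L.1.2.2 x (by rw [hS, Finset.mem_insert, not_or]; exact ⟨e, hx⟩)⟩
          invFun := fun L => ⟨⟨L.1, L.2.1, fun x hx => L.2.2 x (fun h => hx (hS ▸ Finset.mem_insert_of_mem h))⟩,
            not_not.2 (L.2.2 k0 hk0F)⟩
          left_inv := fun L => rfl
          right_inv := fun L => rfl }
  rw [c1, c2, hS, Finset.card_insert_of_notMem hk0F, pow_succ, mul_comm] at hsplit
  rw [Nat.sub_one_mul]
  omega

/-- checks of a cell of a moved position: it is empty -/
def pairOK (τ : Fin m → Fin m) (k0 : Fin m) (key : List (Fin m)) (σ : Fin m → Fin m) (i j m1 : Fin m)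
    (Pz A : List (Fin m)) (reps : List (Fin m × Mv m)) (Mj Mn : Mv m) : Bool :=
  reachOK τ k0 key A reps && σ j == i && key.contains j && decide (σ m1 < i) &&
    (Pz.all fun x => decide (σ x < i)) && A.contains m1 && A.contains j &&
    (key.all fun x => x == j || x == τ j || Pz.contains x || cover τ reps x) &&
    (key.all fun x => !(x == j || x == τ j || Pz.contains x) || A.contains x) &&
    (key.all fun x => !(x == j || x == τ j || Pz.contains x) || !cover τ reps x) &&
    Mj.fx == (τ j == j) && ((Mj.s1 j).map Prod.fst == some k0) && Mj.s2 j == none && Mj.s3 j == none &&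
    (Mj.tgts k0).isEmpty && (key.all fun x => x == j || x == τ j || (Mj.tgts x).isEmpty) &&
    ((Mj.tgts m1).all fun y => y == k0 || A.contains y) && (Mj.tgts m1).count k0 == 1 &&
    ((Mn.tgts k0).contains j && ((m1 :: j :: Pz).all fun x => (Mn.tgts x).all fun y => y == m1 || Pz.contains y))

include hkey in
theorem pair_empty (hbase : ∀ a, a ≠ 0 → P.fr a = a → μ (P.orbV k0 a) = 1) {N : Mo K m} (hN : N.Compat P)
    (hμN : ∀ L, μ (N.tr L) = μ L) {i j m1 : Fin m} {Pz A : List (Fin m)} {reps : List (Fin m × Mv m)}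
    {Mj Mn : Mv m} (hok : pairOK P.τ k0 key N.σ i j m1 Pz A reps Mj Mn = true)
    (hu : ∀ r ∈ reps, Usable P μ r.2) (huj : Usable P μ Mj) (hun : Usable P μ Mn) {L : Fin m → K}
    (hL : L ∈ P.Vs) (hlead : Lead i L) : μ L = 0 := by
  classical
  simp only [pairOK, Bool.and_eq_true, beq_iff_eq, List.all_eq_true, List.contains_eq_mem, Bool.or_eq_true,
    decide_eq_true_eq, Bool.not_eq_true', List.isEmpty_iff] at hok
  obtain ⟨⟨⟨⟨⟨⟨⟨⟨⟨⟨⟨⟨⟨⟨⟨⟨⟨⟨hr, hσ⟩, hjk⟩, hσm⟩, hσP⟩, hmA⟩, hjA⟩, hcov⟩, hexA⟩, hexc⟩, hfx⟩, h1⟩, h2⟩, h3⟩, hk0⟩,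
    hoth⟩, htg⟩, hcnt⟩, hn1, hn2⟩ := hok
  have hr' := hr
  simp only [reachOK, Bool.and_eq_true, Bool.not_eq_true', List.contains_eq_mem, decide_eq_false_iff_not,
    beq_iff_eq] at hr'
  have hk0key : k0 ∉ key := hr'.1.1.1
  have hτ : P.τ k0 = k0 := hr'.1.2
  have core : ∀ L ∈ P.Vs, L k0 ≠ 0 → L j ≠ 0 → L m1 = 0 → (∀ x ∈ Pz, L x = 0) → μ L = 0 := by
    intro L hL h0 hj0 hm hP
    by_contra hne
    obtain ⟨L1, hL1, hμ1, h10, h1key, h1z⟩ := reach hr hu hL h0
    obtain ⟨C, hC⟩ : ∃ C, Mj.s1 j = some (k0, C) := by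
      cases e : Mj.s1 j with
      | none => simp [e] at h1
      | some p => simp only [e, Option.map_some, Option.some.injEq] at h1; exact ⟨p.2, by rw [← h1]⟩
    have hC0 : (C : K) ≠ 0 := huj.hC j k0 C (Or.inl hC)
    obtain ⟨t, ht⟩ : ∃ t : K, t = L j / ((C : K) * L k0) := ⟨_, rfl⟩
    have ht0 : t ≠ 0 := by rw [ht]; exact div_ne_zero hj0 (mul_ne_zero hC0 h0)
    have hv : Mj.Valid P t := fun e => by
      rw [hfx, beq_iff_eq] at e
      rw [ht, map_div₀, P.fix_of_mem hL e, map_mul, map_intCast, P.fix_of_mem hL hτ]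
    have hj1 : L1 j = 0 := h1z j hjA
    obtain ⟨L2, hL2d⟩ : ∃ L2, L2 = Mj.tr P t L1 := ⟨_, rfl⟩
    have hL2 : L2 ∈ P.Vs := hL2d ▸ Mv.tr_mem huj.compat hv hL1
    have h2j : L2 j = L j := by
      rw [hL2d]
      simp only [Mv.tr, Mv.sl, hC, h2, h3, Option.elim_some, Option.elim_none, add_zero, hj1, zero_add, h10]
      rw [ht]
      field_simp
    have hag : Agree k0 key L L2 := by
      intro x hx
      rcases List.mem_cons.1 hx with rfl | hx
      · rw [hL2d, Mv.tr_eq (by simp [hk0]), h10]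
      by_cases e : x = j ∨ x = P.τ j
      · rcases e with rfl | rfl
        · exact h2j
        · rw [P.mem_Vs.1 hL2 j, h2j, ← P.mem_Vs.1 hL j]
      push Not at e
      rw [hL2d, Mv.tr_eq (fun y hy => by
        rcases hoth x hx with (h | h) | h
        · exact absurd h e.1
        · exact absurd h e.2
        · simp [h] at hy), h1key x hx]
      rcases hcov x hx with ((h | h) | h) | h
      · exact absurd h e.1
      · exact absurd h e.2
      · have hc : cover P.τ reps x = false := (hexc x hx).resolve_left (by simp [h])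
        simp [hc, hP x h]
      · rw [if_pos h]
    have hμ2 : μ L2 = 1 := by
      rw [hL2d, huj.inv t hv, hμ1, hbase _ h0 (P.fix_of_mem hL hτ)]
    have e2 := key_unique hkey hL hL2 h0 hag hne (by rw [hμ2]; exact one_ne_zero)
    have hcontra := congrFun e2 m1
    rw [hm, hL2d] at hcontra
    have hsl : ∀ (S : Slot m) (c : K), (∀ y D, S m1 = some (y, D) → y ∈ Mj.tgts m1) → c ≠ 0 →
        (∀ y D, S m1 = some (y, D) → (D : K) ≠ 0) →
        (Mv.sl S c L1 m1 ≠ 0 ↔ (S m1).map Prod.fst = some k0) := by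
      intro S c hS hc hD
      unfold Mv.sl
      cases e : S m1 with
      | none => simp
      | some p =>
        simp only [Option.elim_some, Option.map_some, Option.some.injEq]
        by_cases hp : p.1 = k0
        · simp only [hp, iff_true]
          exact mul_ne_zero (mul_ne_zero (hD p.1 p.2 e) hc) (h10 ▸ h0)
        · have := (htg p.1 (hS p.1 p.2 e)).resolve_left hp
          simp [hp, h1z _ this]
    have s1 := hsl Mj.s1 t (fun y D e => Mv.mem_tgts.2 (Or.inl ⟨D, e⟩)) ht0
      (fun y D e => huj.hC m1 y D (Or.inl e))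
    have hft : P.fr t ≠ 0 := fun e => ht0 (by rw [← P.fr_fr t, e, map_zero])
    have s2 := hsl Mj.s2 (P.fr t) (fun y D e => Mv.mem_tgts.2 (Or.inr (Or.inl ⟨D, e⟩))) hft
      (fun y D e => huj.hC m1 y D (Or.inr (Or.inl e)))
    have s3 := hsl Mj.s3 (t * P.fr t) (fun y D e => Mv.mem_tgts.2 (Or.inr (Or.inr ⟨D, e⟩))) (mul_ne_zero ht0 hft)
      (fun y D e => huj.hC m1 y D (Or.inr (Or.inr e)))
    rw [Mv.tr, h1z m1 hmA, zero_add] at hcontra
    have hc : ∀ o : Option (Fin m × ℤ), (o.toList.map Prod.fst).count k0 =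
        if o.map Prod.fst = some k0 then 1 else 0 := fun o => by
      cases o with
      | none => simp
      | some p => simp [List.count_singleton]
    simp only [Mv.tgts, List.map_append, List.count_append, hc] at hcnt
    by_cases p1 : (Mj.s1 m1).map Prod.fst = some k0 <;> by_cases p2 : (Mj.s2 m1).map Prod.fst = some k0 <;>
      by_cases p3 : (Mj.s3 m1).map Prod.fst = some k0
    all_goals simp only [p1, p2, p3, if_true, if_false] at hcnt
    all_goals try omega
    · rw [not_not.1 (mt s2.1 p2), not_not.1 (mt s3.1 p3), add_zero, add_zero] at hcontra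
      exact s1.2 p1 hcontra
    · rw [not_not.1 (mt s1.1 p1), not_not.1 (mt s3.1 p3), zero_add, add_zero] at hcontra
      exact s2.2 p2 hcontra
    · rw [not_not.1 (mt s1.1 p1), not_not.1 (mt s2.1 p2), zero_add, zero_add] at hcontra
      exact s3.2 p3 hcontra
  have hb : ∀ k, N.σ k < i → N.tr L k = 0 := fun k hk => by
    show N.c k * L (N.σ k) = 0
    rw [hlead.2 _ hk, mul_zero]
  have hmem := Mo.tr_mem hN hL
  have hj0 : N.tr L j ≠ 0 := by
    show N.c j * L (N.σ j) ≠ 0
    rw [hσ]; exact mul_ne_zero (hN.ne j) hlead.1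
  rw [← hμN]
  by_cases h0 : N.tr L k0 = 0
  swap
  · exact core _ hmem h0 hj0 (hb m1 hσm) fun x hx => hb x (hσP x hx)
  have hex : ∃ t, Mn.Valid P t ∧ Mn.tr P t (N.tr L) k0 ≠ N.tr L k0 := by
    by_contra hh
    push Not at hh
    exact hj0 (Mv.kill (P := P) (M := Mn) (k := k0) (hun.hfx k0) (hun.hC k0) hh j hn1)
  obtain ⟨t, ht, hne⟩ := hex
  rw [h0] at hne
  have hzz : ∀ x, x = m1 ∨ x ∈ Pz → N.tr L x = 0 := fun x hx => hx.elim (fun e => e ▸ hb m1 hσm) fun h => hb x (hσP x h)
  have hst : ∀ x ∈ m1 :: j :: Pz, Mn.tr P t (N.tr L) x = N.tr L x := fun x hx =>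
    Mv.tr_eq fun y hy => hzz y (hn2 x hx y hy)
  rw [← hun.inv t ht]
  refine core _ (Mv.tr_mem hun.compat ht hmem) hne ?_ ?_ fun x hx => ?_
  · rw [hst j (by simp)]; exact hj0
  · rw [hst m1 (by simp), hb m1 hσm]
  · rw [hst x (by simp [hx]), hb x (hσP x hx)]

end key

section total

variable [Fintype K] [DecidableEq K]

theorem sum_lead : ∑ L : P.Vs, μ L = μ 0 + ∑ i : Fin m,
    ∑ L ∈ (Finset.univ : Finset P.Vs).filter (fun L : P.Vs => Lead i (L : Fin m → K)), μ L := by
  classical
  rw [← Finset.add_sum_erase _ _ (Finset.mem_univ (0 : P.Vs))]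
  congr 1
  have hcover : (Finset.univ.erase (0 : P.Vs)) = Finset.univ.biUnion fun i : Fin m =>
      (Finset.univ : Finset P.Vs).filter fun L : P.Vs => Lead i (L : Fin m → K) := by
    ext L
    simp only [Finset.mem_erase, Finset.mem_univ, and_true, Finset.mem_biUnion, Finset.mem_filter, true_and]
    refine ⟨fun hl => ?_, fun ⟨i, hi, _⟩ e => hi (by rw [e]; rfl)⟩
    have : ∃ i, (L : Fin m → K) i ≠ 0 := by
      by_contra hh
      push Not at hh
      exact hl (Subtype.ext (funext hh))
    refine ⟨Fin.find _ this, Fin.find_spec this, fun k hk => ?_⟩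
    by_contra hk0
    exact Fin.find_min this hk hk0
  rw [hcover, Finset.sum_biUnion]
  intro i _ j _ hij
  refine Finset.disjoint_left.2 fun l hi hj => ?_
  simp only [Finset.mem_filter, Finset.mem_univ, true_and] at hi hj
  rcases lt_or_gt_of_ne hij with hlt | hlt
  · exact hi.1 (hj.2 i hlt)
  · exact hj.1 (hi.2 j hlt)

omit [DecidableEq K] in
theorem lead_empty {i : Fin m} (hi : P.τ i < i) (L : P.Vs) : ¬ Lead i (L : Fin m → K) := fun h => by
  have := P.zero_of_τ L.2 (h.2 _ hi)
  rw [P.τ_τ] at this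
  exact h.1 this

end total

end Cfsg.Agent.TwSpec
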