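/-
The action of a twisted group through an ambient group with root elements on the symmetrical vectors of some
commuting positions.
-/
import Cfsg.Agent.Lib.MinDegree.Tw.Move
import Cfsg.Agent.Lib.MinDegree.Heis.Levi

set_option autoImplicit false

namespace Cfsg.Agent.TwSpec

open LinearMap Module Cfsg.Agent.Chev Cfsg.Agent.Heis

/-- commuting positions in an ambient group and an action of a group mapping to it -/
structure Sys {K : Type*} [Field K] {m : ℕ} (P : Fr K m) (Gb H W : Type*) [Group Gb] [Group H] [AddCommGroup W]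
    [Module ℂ W] where
  y : Fin m → AddChar K Gb
  comm : ∀ i j, i ≠ j → ∀ s t, Commute (y i s) (y j t)
  ι : H →* Gb
  f : H →* Module.End ℂ W
  ker : ∀ h, ι h = 1 → f h = 1
  mem : ∀ v ∈ P.Vs, ∃ h, ι h = piChar y comm v

namespace Sys

variable {K : Type*} [Field K] {m : ℕ} {P : Fr K m} {Gb H W : Type*} [Group Gb] [Group H] [AddCommGroup W]
  [Module ℂ W] (S : Sys P Gb H W)

/-- the positions as one homomorphism -/
noncomputable def Y : AddChar (Fin m → K) Gb := piChar S.y S.comm

theorem Y_single (k : Fin m) (t : K) : S.Y (Pi.single k t) = S.y k t := piChar_single _ _ k t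

theorem f_eq {h h' : H} (e : S.ι h = S.ι h') : S.f h = S.f h' := by
  have h1 : S.f (h * h'⁻¹) = 1 := S.ker _ (by rw [map_mul, map_inv, e, mul_inv_cancel])
  rw [show h = h * h'⁻¹ * h' by group, map_mul, h1, one_mul]

/-- the action of the symmetrical vectors -/
noncomputable def R : AddChar P.Vs (Module.End ℂ W) where
  toFun v := S.f (S.mem v v.2).choose
  map_zero_eq_one' := S.ker _ (((S.mem _ (0 : P.Vs).2).choose_spec).trans (AddChar.map_zero_eq_one _))
  map_add_eq_mul' v w := by
    rw [← map_mul]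
    refine S.f_eq ?_
    rw [map_mul, (S.mem _ (v + w).2).choose_spec, (S.mem _ v.2).choose_spec, (S.mem _ w.2).choose_spec,
      ← AddChar.map_add_eq_mul]
    rfl

theorem R_eq {h : H} {v : P.Vs} (e : S.ι h = S.Y v) : S.R v = S.f h :=
  S.f_eq (((S.mem _ v.2).choose_spec).trans e.symm)

/-- the conjugation by an element -/
def Conj (h : H) (A : (Fin m → K) →+ (Fin m → K)) : Prop :=
  ∀ v, S.ι h * S.Y v * (S.ι h)⁻¹ = S.Y (A v)

theorem conj_of_single [Fintype K] {g : Gb} {A : (Fin m → K) →+ (Fin m → K)}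
    (h1 : ∀ k u, g * S.y k u * g⁻¹ = S.Y (A (Pi.single k u))) (v : Fin m → K) :
    g * S.Y v * g⁻¹ = S.Y (A v) :=
  Heis.pi_ext (a := (MulAut.conj g).toMonoidHom.compAddChar S.Y) (b := S.Y.compAddMonoidHom A)
    (fun k u => by
      show g * S.Y (Pi.single k u) * g⁻¹ = S.Y (A (Pi.single k u))
      rw [Y_single]; exact h1 k u) v

theorem R_conj {h : H} {A : (Fin m → K) →+ (Fin m → K)} (hc : S.Conj h A) (v : P.Vs) (hv : A v ∈ P.Vs) :
    S.f h⁻¹ * S.R ⟨A v, hv⟩ * S.f h = S.R v := by
  obtain ⟨g, hg⟩ := S.mem v v.2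
  rw [S.R_eq (h := h * g * h⁻¹) (by rw [map_mul, map_mul, map_inv, hg]; exact hc v), ← map_mul, ← map_mul,
    show h⁻¹ * (h * g * h⁻¹) * h = g by group]
  exact (S.R_eq hg).symm

theorem hom_inv (h : H) : S.f h * S.f h⁻¹ = 1 := by rw [← map_mul, mul_inv_cancel, map_one]

variable [Fintype K] [DecidableEq K] [FiniteDimensional ℂ W]

theorem mu_conj {ψ : AddChar K ℂ} {h : H} {A : (Fin m → K) →+ (Fin m → K)} (hc : S.Conj h A)
    (hA : ∀ v ∈ P.Vs, A v ∈ P.Vs) (hinj : Function.Injective A) {L L' : Fin m → K}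
    (hL : ∀ v, Fr.pair L (A v) = Fr.pair L' v) : P.mu ψ S.R L' = P.mu ψ S.R L := by
  obtain ⟨B, hB⟩ : ∃ B : P.Vs →+ P.Vs, B = (A.comp P.Vs.subtype).codRestrict P.Vs fun v => hA v v.2 := ⟨_, rfl⟩
  have hBv : ∀ v : P.Vs, (B v : Fin m → K) = A v := fun v => by rw [hB]; rfl
  refine P.mu_conj (g := S.f h) (g' := S.f h⁻¹) B (Finite.injective_iff_bijective.1 fun v w e => ?_) (S.hom_inv h)
    (fun v => ?_) (fun v => by rw [hBv]; exact hL v)
  · exact Subtype.ext (hinj (by rw [← hBv, ← hBv, e]))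
  · have e : B v = ⟨A v, hA v v.2⟩ := Subtype.ext (hBv v)
    rw [e]
    exact S.R_conj hc v (hA v v.2)

omit [FiniteDimensional ℂ W] in
theorem commute_proj {ψ : AddChar K ℂ} {h : H} {A : (Fin m → K) →+ (Fin m → K)} (hc : S.Conj h A)
    (hA : ∀ v ∈ P.Vs, A v ∈ P.Vs) (hinj : Function.Injective A) :
    Commute (S.f h) (ReeRep.proj S.R (P.chi ψ 0)) := by
  obtain ⟨B, hB⟩ : ∃ B : P.Vs →+ P.Vs, B = (A.comp P.Vs.subtype).codRestrict P.Vs fun v => hA v v.2 := ⟨_, rfl⟩
  have hBv : ∀ v : P.Vs, (B v : Fin m → K) = A v := fun v => by rw [hB]; rfl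
  have e := ReeRep.conj_proj (R := S.R) (g := S.f h) (g' := S.f h⁻¹) (c := B)
    (Finite.injective_iff_bijective.1 fun v w e => Subtype.ext (hinj (by rw [← hBv, ← hBv, e])))
    (fun v => by
      rw [show B v = ⟨A v, hA v v.2⟩ from Subtype.ext (hBv v)]
      exact S.R_conj hc v (hA v v.2)) (P.chi ψ 0)
  rw [show (P.chi ψ 0).compAddMonoidHom B = P.chi ψ 0 from DFunLike.ext _ _ fun v => by
    simp [AddChar.compAddMonoidHom_apply, Fr.chi_apply, Fr.pair]] at e
  have e2 := congrArg (fun x => S.f h * x) e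
  simp only [← mul_assoc, S.hom_inv h, one_mul] at e2
  exact e2.symm

/-- Shifts which are realised. -/
def Real (M : Mv m) : Prop := ∀ t, M.Valid P t → ∃ h, S.Conj h (M.mv P t)

theorem mu_tr {ψ : AddChar K ℂ} {M : Mv m} (hr : S.Real M) (hcp : M.Compat P) (hs : M.Short) {t : K}
    (ht : M.Valid P t) (L : Fin m → K) : P.mu ψ S.R (M.tr P t L) = P.mu ψ S.R L := by
  obtain ⟨h, hc⟩ := hr t ht
  exact S.mu_conj hc (fun v hv => Mv.mv_mem hcp ht hv) (Mv.mv_injective hs t) (M.pair_mv P t L)

theorem mu_mo {ψ : AddChar K ℂ} {N : Mo K m} (hN : N.Compat P) {h : H} (hc : S.Conj h N.mv) (L : Fin m → K) :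
    P.mu ψ S.R (N.tr L) = P.mu ψ S.R L :=
  S.mu_conj hc (fun _ hv => Mo.mv_mem hN hv) (Mo.mv_injective hN) (N.pair_mv L)

end Sys

/-! ### shifts by root elements -/

section root

variable {m : ℕ} (T : Tab) (S : ℕ → Bool) (q : Fin m → ℕ)

/-- where a root moves a position -/
def tgF (b : ℕ) : Slot m := fun k =>
  bif com T S b (q k) then none
  else match sumR T b (q k) with
    | some (r, C) => ((List.finRange m).find? fun j => q j == r).map fun j => (j, C)
    | none => none

/-- a root shifts the positions -/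
def sh1 (dead : List ℕ) (b : ℕ) : Bool :=
  (List.finRange m).all fun k =>
    match tgF T S q b k with
    | none => into T S dead b (q k)
    | some (j, _) => bra T S b (q k) (q j)

/-- the shift of the orbit of a root -/
def orbMv (b bp : ℕ) (zb : ℤ) : Mv m where
  fx := b == bp
  s1 := tgF T S q b
  s2 k := bif b == bp then none else (tgF T S q bp k).map fun e => (e.1, e.2 * zb)
  s3 k := bif b == bp then none else
    ((tgF T S q bp k).map fun e => (e.1, e.2 * zb)).bind fun e =>
      (tgF T S q b e.1).map fun e' => (e'.1, e.2 * e'.2)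

/-- a slot is compatible -/
def imgB (τ : Fin m → Fin m) (z : Fin m → ℤ) (k : Fin m) (o : Option (Fin m × ℤ)) : Option (Fin m × ℤ) :=
  o.map fun e => (τ e.1, e.2 * z k * z e.1)

/-- checks of a shift -/
def mvOK (τ : Fin m → Fin m) (z : Fin m → ℤ) (M : Mv m) : Bool :=
  ((List.finRange m).all fun k =>
    (bif M.fx then M.s2 k == none && M.s3 k == none && M.s1 (τ k) == imgB τ z k (M.s1 k)
      else M.s2 (τ k) == imgB τ z k (M.s1 k) && M.s3 (τ k) == imgB τ z k (M.s3 k)) &&
    ((M.s1 k).toList ++ (M.s2 k).toList ++ (M.s3 k).toList).all fun e => e.2 == 1 || e.2 == -1) &&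
  ((List.finRange m).all fun a => (M.tgts a).all fun b => (M.tgts b).all fun c => (M.tgts c).isEmpty)

/-- checks of the shift of an orbit -/
def orbOK (dead : List ℕ) (τ : Fin m → Fin m) (z : Fin m → ℤ) (b bp : ℕ) (zb : ℤ) : Bool :=
  sh1 T S q dead b && sh1 T S q dead bp && mvOK τ z (orbMv T S q b bp zb) && (zb == 1 || zb == -1)

variable {T S q}

theorem mvOK_spec {K : Type*} [Field K] {P : Fr K m} {M : Mv m} (h : mvOK P.τ P.z M = true) :
    M.Compat P ∧ M.Short ∧ (∀ k, M.fx = true → M.s2 k = none ∧ M.s3 k = none) ∧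
      ∀ k i C, (M.s1 k = some (i, C) ∨ M.s2 k = some (i, C) ∨ M.s3 k = some (i, C)) → (C : K) ≠ 0 := by
  simp only [mvOK, Bool.and_eq_true, List.all_eq_true, List.mem_finRange, forall_const, List.isEmpty_iff] at h
  obtain ⟨h1, h2⟩ := h
  refine ⟨?_, fun a b c hab hbc d hcd => ?_, fun k hfx => ?_, fun k i C hC => ?_⟩
  · cases hfx : M.fx
    · simp only [hfx, cond_false, Bool.and_eq_true, beq_iff_eq] at h1
      simp only [Mv.Compat, hfx, Bool.false_eq_true, if_false]
      exact ⟨fun k => (h1 k).1.1, fun k => (h1 k).1.2⟩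
    · simp only [hfx, cond_true, Bool.and_eq_true, beq_iff_eq] at h1
      simp only [Mv.Compat, hfx, if_true]
      exact ⟨fun k => (h1 k).1.1.1, fun k => (h1 k).1.1.2, fun k => (h1 k).1.2⟩
  · have := h2 a b (Mv.mem_tgts.2 hab) c (Mv.mem_tgts.2 hbc)
    have hd := Mv.mem_tgts.2 hcd
    rw [this] at hd
    simp at hd
  · have := (h1 k).1
    simp only [hfx, cond_true, Bool.and_eq_true, beq_iff_eq] at this
    exact ⟨this.1.1, this.1.2⟩
  · have := (h1 k).2 (i, C) (by
      simp only [List.mem_append, Option.mem_toList, Option.mem_def]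
      tauto)
    simp only [Bool.or_eq_true, beq_iff_eq] at this
    rcases this with e | e <;> simp [e]

variable {K : Type*} [Field K] [Fintype K] {Gb H W : Type*} [Group Gb] [Group H] [AddCommGroup W]
  [Module ℂ W] {P : Fr K m} (Sy : Sys P Gb H W) (E : Grp T K Gb) {dead : List ℕ}

theorem conj1 (hy : ∀ k, Sy.y k = E.x (q k)) (hdead : ∀ r ∈ dead, ∀ u, E.x r u = 1) {b : ℕ}
    (h : sh1 T E.S q dead b = true) (s : K) (v : Fin m → K) :
    E.x b s * Sy.Y v * (E.x b s)⁻¹ = Sy.Y ((AddMonoidHom.id (Fin m → K) + Mv.sv (tgF T E.S q b) s : (Fin m → K) →+ (Fin m → K)) v) := by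
  refine Sy.conj_of_single (fun k u => ?_) v
  simp only [AddMonoidHom.add_apply, AddMonoidHom.id_apply, AddChar.map_add_eq_mul, Sy.Y_single]
  have hk : ∀ (o : Option (Fin m × ℤ)), tgF T E.S q b k = o →
      Mv.sv (tgF T E.S q b) s (Pi.single k u) = o.elim 0 fun e => Pi.single e.1 ((e.2 : K) * s * u) := by
    intro o ho
    simp only [Mv.sv, AddMonoidHom.coe_mk, ZeroHom.coe_mk]
    rw [Finset.sum_eq_single k (fun k' _ hk' => by cases tgF T E.S q b k' <;> simp [Pi.single_eq_of_ne hk'])
      (by simp), ho, Pi.single_eq_same]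
  simp only [sh1, List.all_eq_true, List.mem_finRange, forall_const] at h
  have hk' := h k
  rw [hy k]
  cases e : tgF T E.S q b k with
  | none =>
    simp only [e] at hk'
    rw [hk none e, Option.elim_none, AddChar.map_zero_eq_one, mul_one]
    rcases of_into hk' with hc | ⟨r, hr, hc⟩
    · rw [(E.commute hc s u).eq, mul_inv_cancel_right]
    · obtain ⟨C, -, -, hb, -⟩ := E.bracket hc
      rw [hb, hdead r hr, mul_one]
  | some p =>
    obtain ⟨j, C⟩ := p
    simp only [e] at hk'
    rw [hk _ e, Option.elim_some, Sy.Y_single, hy j]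
    have hs : sumR T b (q k) = some (q j, C) := by
      simp only [tgF] at e
      cases hcom : com T E.S b (q k)
      · simp only [hcom, cond_false] at e
        cases hsum : sumR T b (q k) with
        | none => simp [hsum] at e
        | some rc =>
          simp only [hsum, Option.map_eq_some_iff, Prod.mk.injEq] at e
          obtain ⟨j', hj', rfl, rfl⟩ := e
          have := List.find?_some hj'
          simp only [beq_iff_eq] at this
          rw [this]
      · simp [hcom] at e
    have e' := E.bracket_comm hk' hs s u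
    rw [commutatorElement_def] at e'
    have hbr : com T E.S (q k) (q j) = true := by
      simp only [bra, Bool.and_eq_true] at hk'
      exact hk'.2
    calc E.x b s * E.x (q k) u * (E.x b s)⁻¹
        = (E.x b s * E.x (q k) u * (E.x b s)⁻¹ * (E.x (q k) u)⁻¹) * E.x (q k) u := by group
      _ = E.x (q k) u * E.x (q j) ((C : K) * s * u) := by rw [e', (E.commute hbr _ _).eq]

/-- the element of the orbit of a root -/
noncomputable def orbEl (fr : K →+* K) (b bp : ℕ) (zb : ℤ) (t : K) : Gb :=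
  E.x b t * (bif b == bp then 1 else E.x bp ((zb : K) * fr t))

theorem conj_orb (hy : ∀ k, Sy.y k = E.x (q k)) (hdead : ∀ r ∈ dead, ∀ u, E.x r u = 1) {b bp : ℕ} {zb : ℤ}
    (h : orbOK T E.S q dead P.τ P.z b bp zb = true) {t : K} {g : H} (hg : Sy.ι g = orbEl E P.fr b bp zb t) :
    Sy.Conj g ((orbMv T E.S q b bp zb).mv P t) := by
  simp only [orbOK, Bool.and_eq_true] at h
  intro v
  rw [hg]
  refine Sy.conj_of_single (fun k u => ?_) v
  rw [← Sy.Y_single]
  have hkk : ∀ (Sl : Slot m) (c : K), Mv.sv Sl c (Pi.single k u) =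
      (Sl k).elim 0 fun e => Pi.single e.1 ((e.2 : K) * c * u) := fun Sl c => by
    simp only [Mv.sv, AddMonoidHom.coe_mk, ZeroHom.coe_mk]
    rw [Finset.sum_eq_single k (fun k' _ hk' => by cases Sl k' <;> simp [Pi.single_eq_of_ne hk']) (by simp),
      Pi.single_eq_same]
  have c1 := conj1 Sy E hy hdead h.1.1.1
  have c2 := conj1 Sy E hy hdead h.1.1.2
  by_cases hb : b = bp
  · subst hb
    simp only [orbEl, beq_self_eq_true, cond_true, mul_one, c1]
    congr 1
    simp [Mv.mv, orbMv, hkk]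
  · have hb' : (b == bp) = false := beq_eq_false_iff_ne.2 hb
    simp only [orbEl, hb', cond_false]
    rw [show E.x b t * E.x bp ((zb : K) * P.fr t) * Sy.Y (Pi.single k u) * (E.x b t * E.x bp ((zb : K) * P.fr t))⁻¹ =
      E.x b t * (E.x bp ((zb : K) * P.fr t) * Sy.Y (Pi.single k u) * (E.x bp ((zb : K) * P.fr t))⁻¹) * (E.x b t)⁻¹ by group,
      c2, c1]
    congr 1
    simp only [AddMonoidHom.add_apply, AddMonoidHom.id_apply, map_add, Mv.mv, hkk, orbMv, hb', cond_false]
    cases e2 : tgF T E.S q bp k with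
    | none => simp
    | some p =>
      obtain ⟨j, C⟩ := p
      simp only [Option.elim_some, Option.map_some, Option.bind_some]
      have hjj : Mv.sv (tgF T E.S q b) t (Pi.single j ((C : K) * ((zb : K) * P.fr t) * u)) =
          (tgF T E.S q b j).elim 0 fun e => Pi.single e.1 ((e.2 : K) * t * ((C : K) * ((zb : K) * P.fr t) * u)) := by
        simp only [Mv.sv, AddMonoidHom.coe_mk, ZeroHom.coe_mk]
        rw [Finset.sum_eq_single j (fun k' _ hk' => by cases tgF T E.S q b k' <;> simp [Pi.single_eq_of_ne hk'])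
          (by simp), Pi.single_eq_same]
      rw [hjj]
      cases tgF T E.S q b j with
      | none => simp [mul_assoc]
      | some p' =>
        simp only [Option.elim_some, Option.map_some, Int.cast_mul]
        rw [show (p'.2 : K) * t * ((C : K) * ((zb : K) * P.fr t) * u) = (C : K) * (zb : K) * (p'.2 : K) * (t * P.fr t) * u by ring,
          show (C : K) * ((zb : K) * P.fr t) * u = (C : K) * (zb : K) * P.fr t * u by ring]
        abel

theorem real_orb (hy : ∀ k, Sy.y k = E.x (q k)) (hdead : ∀ r ∈ dead, ∀ u, E.x r u = 1) {b bp : ℕ} {zb : ℤ}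
    (h : orbOK T E.S q dead P.τ P.z b bp zb = true)
    (hmem : ∀ t, ((b == bp) = true → P.fr t = t) → ∃ g, Sy.ι g = orbEl E P.fr b bp zb t) :
    Sy.Real (orbMv T E.S q b bp zb) := fun t ht => by
  obtain ⟨g, hg⟩ := hmem t ht
  exact ⟨g, conj_orb Sy E hy hdead h hg⟩

end root

end Cfsg.Agent.TwSpec
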