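/-
The spectrum of a level from a certificate of roots and words.
-/
import Cfsg.Agent.Lib.MinDegree.Tw.Sys
import Cfsg.Agent.Lib.MinDegree.Tw.Spectrum

set_option autoImplicit false

namespace Cfsg.Agent.TwSpec

open LinearMap Module Cfsg.Agent.Chev Cfsg.Agent.Heis

/-- the root positions with their symmetry -/
structure Lay (m : ℕ) where
  q : Fin m → ℕ
  π : ℕ → ℕ
  ζ : ℕ → ℤ
  dead : List ℕ

namespace Lay

variable {m : ℕ} (D : Lay m) (T : Tab) (S : ℕ → Bool)

/-- the involution of positions -/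
def tau (k : Fin m) : Fin m := ((List.finRange m).find? fun j => D.q j == D.π (D.q k)).getD k

/-- the signs of positions -/
def sgn (k : Fin m) : ℤ := D.ζ (D.q k)

/-- the positions commute and are symmetrical -/
def chk : Bool :=
  (List.finRange m).all fun k => D.q (D.tau k) == D.π (D.q k) && D.tau (D.tau k) == k &&
    (D.sgn k == 1 || D.sgn k == -1) && D.sgn (D.tau k) == D.sgn k && (!(D.tau k == k) || D.sgn k == 1) &&
    (List.finRange m).all fun j => j == k || into T S D.dead (D.q k) (D.q j)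

/-- the structure on vectors -/
noncomputable def toFr {K : Type*} [Field K] (h : D.chk T S = true) (fr : K →+* K) (hfr : ∀ t, fr (fr t) = t)
    (hex : ∃ t, fr t ≠ t) : Fr K m where
  fr := fr
  fr_fr := hfr
  ex := hex
  τ := D.tau
  τ_τ k := by
    simp only [chk, Bool.and_eq_true, List.all_eq_true, List.mem_finRange, forall_const, beq_iff_eq] at h
    exact (h k).1.1.1.1.2
  z := D.sgn
  z_sq k := by
    simp only [chk, Bool.and_eq_true, List.all_eq_true, List.mem_finRange, forall_const, beq_iff_eq,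
      Bool.or_eq_true] at h
    rcases (h k).1.1.1.2 with e | e <;> rw [e] <;> rfl
  z_τ k := by
    simp only [chk, Bool.and_eq_true, List.all_eq_true, List.mem_finRange, forall_const, beq_iff_eq] at h
    exact (h k).1.1.2
  z_fix k e := by
    simp only [chk, Bool.and_eq_true, List.all_eq_true, List.mem_finRange, forall_const, beq_iff_eq,
      Bool.or_eq_true, Bool.not_eq_true', beq_eq_false_iff_ne] at h
    exact (h k).1.2.resolve_left (not_not.2 e)

/-- the shift of an orbit -/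
def mvOf (b : ℕ) : Mv m := orbMv T S D.q b (D.π b) (D.ζ b)

/-- checks of a shift -/
def rootOK (b : ℕ) : Bool := orbOK T S D.q D.dead D.tau D.sgn b (D.π b) (D.ζ b)

/-- the shifts from roots -/
def mvs (reps : List (Fin m × ℕ)) : List (Fin m × Mv m) := reps.map fun r => (r.1, D.mvOf T S r.2)

/-- the image of a position under a word -/
def wpos (w : List ℕ) (k : Fin m) : Fin m :=
  ((List.finRange m).find? fun j => D.q j == T.rw' w (D.q k)).getD k

/-- checks of a word -/
def wdOK (J : ℕ → Bool) (w : List ℕ) : Bool :=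
  (List.finRange m).all fun k => Grp.wordOK T S J w (D.q k) && D.q (D.wpos T w k) == T.rw' w (D.q k) &&
    D.wpos T w (D.tau k) == D.tau (D.wpos T w k) &&
    Grp.wSign T w (D.q (D.tau k)) * D.sgn (D.wpos T w k) == D.sgn k * Grp.wSign T w (D.q k) &&
    ((List.finRange m).all fun j => j == k || D.wpos T w j != D.wpos T w k)

/-- the monomial map of a word -/
noncomputable def wMo (K : Type*) [Field K] (w : List ℕ) : Mo K m where
  σ := D.wpos T w
  c k := (Grp.wSign T w (D.q k) : K)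

end Lay

/-- a cell of a fixed position -/
structure LCell (m : ℕ) where
  i : Fin m
  w : List ℕ
  A : List (Fin m)
  reps : List (Fin m × ℕ)

/-- a cell of a moved position -/
structure PCell (m : ℕ) where
  i : Fin m
  w : List ℕ
  j : Fin m
  m1 : Fin m
  Pz : List (Fin m)
  A : List (Fin m)
  reps : List (Fin m × ℕ)
  bj : ℕ
  bn : ℕ

/-- the certificate of a level -/
structure Plan (m : ℕ) where
  k0 : Fin m
  key : List (Fin m)
  kills : List (ℕ × Fin m)
  cells : List (LCell m)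
  pcells : List (PCell m)

namespace Plan

variable {m : ℕ} (C : Plan m) (D : Lay m) (T : Tab) (S : ℕ → Bool)

/-- the roots of the shifts -/
def roots : List ℕ :=
  C.kills.map Prod.fst ++ (C.cells.flatMap fun c => c.reps.map Prod.snd) ++
    C.pcells.flatMap fun c => c.bj :: c.bn :: c.reps.map Prod.snd

/-- the words -/
def words : List (List ℕ) := C.cells.map LCell.w ++ C.pcells.map PCell.w

/-- checks -/
def chk (J : ℕ → Bool) : Bool :=
  (C.roots.all fun b => D.rootOK T S b) && (C.words.all fun w => D.wdOK T S J w) &&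
    !C.key.contains C.k0 && D.tau C.k0 == C.k0 && (C.key.all fun x => C.key.contains (D.tau x)) &&
    killRun D.tau C.k0 C.key (C.kills.map fun s => (D.mvOf T S s.1, s.2)) C.key &&
    (C.cells.all fun c => cellOK D.tau C.k0 C.key (D.wpos T c.w) c.i c.A (D.mvs T S c.reps)) &&
    (C.pcells.all fun c => pairOK D.tau C.k0 C.key (D.wpos T c.w) c.i c.j c.m1 c.Pz c.A (D.mvs T S c.reps)
      (D.mvOf T S c.bj) (D.mvOf T S c.bn)) &&
    decide (C.cells.map LCell.i).Nodup

/-- every position leads a cell or is the second of an orbit -/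
def exhaust : Bool :=
  (List.finRange m).all fun i => decide (D.tau i < i) || (C.cells.map LCell.i).contains i ||
    (C.pcells.map PCell.i).contains i

/-- the sum of the cells -/
def total (q : ℕ) : ℕ := (C.cells.map fun c => (q - 1) * q ^ (freeSet C.key c.A).card).sum

variable {C D T S}
variable {K : Type*} [Field K] [Fintype K] [DecidableEq K] {Gb H W : Type*} [Group Gb] [Group H] [AddCommGroup W]
  [Module ℂ W] [FiniteDimensional ℂ W] {P : Fr K m}

/-- an action realising a certificate -/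
structure Realised (C : Plan m) (D : Lay m) (E : Grp T K Gb) (Sy : Sys P Gb H W) : Prop where
  τ_eq : P.τ = D.tau
  z_eq : P.z = D.sgn
  hy : ∀ k, Sy.y k = E.x (D.q k)
  hdead : ∀ r ∈ D.dead, ∀ u, E.x r u = 1
  hroot : ∀ b ∈ C.roots, ∀ t, ((b == D.π b) = true → P.fr t = t) → ∃ g, Sy.ι g = orbEl E P.fr b (D.π b) (D.ζ b) t
  hword : ∀ w ∈ C.words, ∃ g, Sy.ι g = E.nw w

variable {E : Grp T K Gb} {Sy : Sys P Gb H W}

theorem usable {ψ : AddChar K ℂ} (hτ : P.τ = D.tau) (hz : P.z = D.sgn) (hy : ∀ k, Sy.y k = E.x (D.q k))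
    (hdead : ∀ r ∈ D.dead, ∀ u, E.x r u = 1) {b : ℕ} (hok : D.rootOK T E.S b = true)
    (hm : ∀ t, ((b == D.π b) = true → P.fr t = t) → ∃ g, Sy.ι g = orbEl E P.fr b (D.π b) (D.ζ b) t) :
    Usable P (P.mu ψ Sy.R) (D.mvOf T E.S b) ∧ Sy.Real (D.mvOf T E.S b) ∧ (D.mvOf T E.S b).Short := by
  rw [Lay.rootOK, ← hτ, ← hz] at hok
  have hreal := real_orb Sy E hy hdead hok hm
  simp only [orbOK, Bool.and_eq_true] at hok
  obtain ⟨hc, hs, hfx, hC⟩ := mvOK_spec (K := K) hok.1.2
  exact ⟨⟨fun t ht L => Sy.mu_tr hreal hc hs ht L, hc, hfx, hC⟩, hreal, hs⟩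

omit [Fintype K] [DecidableEq K] [FiniteDimensional ℂ W] in
theorem wMo_compat (hτ : P.τ = D.tau) (hz : P.z = D.sgn) {J : ℕ → Bool} {w : List ℕ}
    (hok : D.wdOK T S J w = true) : (D.wMo T K w).Compat P := by
  simp only [Lay.wdOK, Bool.and_eq_true, List.all_eq_true, List.mem_finRange, forall_const, beq_iff_eq,
    Bool.or_eq_true, bne_iff_ne] at hok
  have hsg : ∀ k, (Grp.wSign T w (D.q k) : K) ≠ 0 := fun k => by
    rcases Grp.wSign_sq (T := T) w (D.q k) with e | e <;> simp [e]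
  refine ⟨Finite.injective_iff_bijective.1 fun j k e => ?_, hsg, fun k => ?_, fun k => ?_⟩
  · exact ((hok k).2 j).resolve_right fun h => h e
  · rw [hτ]; exact (hok k).1.1.2
  · rw [hτ, hz]
    simp only [Lay.wMo, map_intCast]
    exact_mod_cast congrArg (Int.cast : ℤ → K) (hok k).1.2

theorem mu_word {ψ : AddChar K ℂ} (hτ : P.τ = D.tau) (hz : P.z = D.sgn) (hy : ∀ k, Sy.y k = E.x (D.q k))
    {w : List ℕ} (hok : D.wdOK T E.S E.J w = true) {g : H} (hg : Sy.ι g = E.nw w) :
    (D.wMo T K w).Compat P ∧ Sy.Conj g (D.wMo T K w).mv ∧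
      ∀ L, P.mu ψ Sy.R ((D.wMo T K w).tr L) = P.mu ψ Sy.R L := by
  have hN := wMo_compat (K := K) hτ hz hok
  have hc : Sy.Conj g (D.wMo T K w).mv := by
    intro v
    refine Sy.conj_of_single (fun k u => ?_) v
    simp only [Lay.wdOK, Bool.and_eq_true, List.all_eq_true, List.mem_finRange, forall_const, beq_iff_eq] at hok
    have e : (D.wMo T K w).mv (Pi.single k u) = Pi.single (D.wpos T w k) ((Grp.wSign T w (D.q k) : K) * u) := by
      simp only [Mo.mv, AddMonoidHom.coe_mk, ZeroHom.coe_mk]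
      rw [Finset.sum_eq_single k (fun k' _ hk' => by simp [Pi.single_eq_of_ne hk']) (by simp), Pi.single_eq_same]
      rfl
    rw [e, Sy.Y_single, hy, hy, hg, (hok k).1.1.1.2]
    exact E.nw_conj (hok k).1.1.1.1 u
  exact ⟨hN, hc, fun L => Sy.mu_mo hN hc L⟩

variable {ψ : AddChar K ℂ} (hR : Realised C D E Sy) (hchk : C.chk D T E.S E.J = true)

include hR hchk in
/-- the base vector -/
theorem base (hkey : HKey P (P.mu ψ Sy.R) C.k0 C.key) {a : K} (ha : a ≠ 0) (hfa : P.fr a = a) :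
    P.mu ψ Sy.R (P.orbV C.k0 a) = 1 := by
  simp only [chk, Bool.and_eq_true, Bool.not_eq_true', List.contains_eq_mem, decide_eq_false_iff_not, beq_iff_eq,
    List.all_eq_true] at hchk
  obtain ⟨⟨⟨⟨⟨⟨⟨⟨hroots, -⟩, hk⟩, hτ⟩, -⟩, hks⟩, -⟩, -⟩, -⟩ := hchk
  refine mu_base hkey (by rw [hR.τ_eq]; exact hks) (fun s hs => ?_) (by rw [hR.τ_eq]; exact hτ) hk ha hfa
  obtain ⟨r, hr, rfl⟩ := List.mem_map.1 hs
  have hrm : r.1 ∈ C.roots := by simp [roots]; exact Or.inl ⟨r.2, hr⟩
  exact (usable hR.τ_eq hR.z_eq hR.hy hR.hdead (hroots _ hrm) (hR.hroot _ hrm)).1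

variable {q : ℕ} (hK : Fintype.card K = q ^ 2) (hF : Nat.card {t : K // P.fr t = t} = q)

include hR hchk hK hF in
theorem lead_cell (hkey : HKey P (P.mu ψ Sy.R) C.k0 C.key) {c : LCell m} (hc : c ∈ C.cells) :
    ∑ L ∈ (Finset.univ : Finset P.Vs).filter (fun L : P.Vs => Lead c.i (L : Fin m → K)), P.mu ψ Sy.R L =
      (q - 1) * q ^ (freeSet C.key c.A).card := by
  have hb := fun a ha hfa => base hR hchk hkey (a := a) ha hfa
  simp only [chk, Bool.and_eq_true, List.all_eq_true, List.contains_eq_mem, decide_eq_true_eq] at hchk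
  obtain ⟨⟨⟨⟨⟨⟨⟨⟨hroots, hwords⟩, -⟩, -⟩, hτkey⟩, -⟩, hcells⟩, -⟩, -⟩ := hchk
  have hw : c.w ∈ C.words := List.mem_append_left _ (List.mem_map_of_mem hc)
  obtain ⟨g, hg⟩ := hR.hword _ hw
  obtain ⟨hN, -, hμ⟩ := mu_word (ψ := ψ) hR.τ_eq hR.z_eq hR.hy (hwords _ hw) hg
  refine cell_sum hkey hb hK hF hN hμ (A := c.A) (reps := D.mvs T E.S c.reps) (by rw [hR.τ_eq]; exact hcells c hc)
    (fun r hr => ?_) (fun x hx => by rw [hR.τ_eq]; exact hτkey x hx)
  obtain ⟨s, hs, rfl⟩ := List.mem_map.1 hr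
  have hrm : s.2 ∈ C.roots := List.mem_append_left _ (List.mem_append_right _
    (List.mem_flatMap.2 ⟨c, hc, List.mem_map_of_mem hs⟩))
  exact (usable hR.τ_eq hR.z_eq hR.hy hR.hdead (hroots _ hrm) (hR.hroot _ hrm)).1

include hR hchk in
theorem lead_pcell (hkey : HKey P (P.mu ψ Sy.R) C.k0 C.key) {c : PCell m} (hc : c ∈ C.pcells) :
    ∑ L ∈ (Finset.univ : Finset P.Vs).filter (fun L : P.Vs => Lead c.i (L : Fin m → K)), P.mu ψ Sy.R L = 0 := by
  have hb := fun a ha hfa => base hR hchk hkey (a := a) ha hfa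
  simp only [chk, Bool.and_eq_true, List.all_eq_true] at hchk
  obtain ⟨⟨⟨⟨⟨⟨⟨⟨hroots, hwords⟩, -⟩, -⟩, -⟩, -⟩, -⟩, hpairs⟩, -⟩ := hchk
  have hw : c.w ∈ C.words := List.mem_append_right _ (List.mem_map_of_mem hc)
  obtain ⟨g, hg⟩ := hR.hword _ hw
  obtain ⟨hN, -, hμ⟩ := mu_word (ψ := ψ) hR.τ_eq hR.z_eq hR.hy (hwords _ hw) hg
  have hu : ∀ b ∈ c.bj :: c.bn :: c.reps.map Prod.snd, Usable P (P.mu ψ Sy.R) (D.mvOf T E.S b) := fun b hb' => by
    have hrm : b ∈ C.roots := List.mem_append_right _ (List.mem_flatMap.2 ⟨c, hc, hb'⟩)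
    exact (usable hR.τ_eq hR.z_eq hR.hy hR.hdead (hroots _ hrm) (hR.hroot _ hrm)).1
  refine Finset.sum_eq_zero fun L hL => ?_
  refine pair_empty hkey hb hN hμ (i := c.i) (reps := D.mvs T E.S c.reps) (by rw [hR.τ_eq]; exact hpairs c hc)
    (fun r hr => ?_) (hu _ (by simp)) (hu _ (by simp)) L.2 (Finset.mem_filter.1 hL).2
  obtain ⟨s, hs, rfl⟩ := List.mem_map.1 hr
  exact hu _ (List.mem_cons_of_mem _ (List.mem_cons_of_mem _ (List.mem_map_of_mem hs)))

variable (hψ : ψ 1 ≠ 1)

include hR hchk hK hF hψ in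
theorem lower (hkey : HKey P (P.mu ψ Sy.R) C.k0 C.key) :
    P.mu ψ Sy.R 0 + C.total q ≤ finrank ℂ W := by
  rw [← P.sum_mu hψ Sy.R, sum_lead, total]
  refine Nat.add_le_add_left ?_ _
  have hnd : (C.cells.map LCell.i).Nodup := by
    simp only [chk, Bool.and_eq_true, decide_eq_true_eq] at hchk
    exact hchk.2
  rw [show C.cells.map (fun c => (q - 1) * q ^ (freeSet C.key c.A).card) = (C.cells.map LCell.i).map
      (fun i => ∑ L ∈ (Finset.univ : Finset P.Vs).filter (fun L : P.Vs => Lead i (L : Fin m → K)), P.mu ψ Sy.R L) by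
    rw [List.map_map]
    exact List.map_congr_left fun c hc => (lead_cell hR hchk hK hF hkey hc).symm,
    ← List.sum_toFinset _ hnd]
  exact Finset.sum_le_sum_of_subset (Finset.subset_univ _)

include hR hchk hK hF hψ in
theorem exact (hex : C.exhaust D = true) (hkey : HKey P (P.mu ψ Sy.R) C.k0 C.key) :
    finrank ℂ W = P.mu ψ Sy.R 0 + C.total q := by
  rw [← P.sum_mu hψ Sy.R, sum_lead, total]
  congr 1
  have hnd : (C.cells.map LCell.i).Nodup := by
    simp only [chk, Bool.and_eq_true, decide_eq_true_eq] at hchk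
    exact hchk.2
  rw [show C.cells.map (fun c => (q - 1) * q ^ (freeSet C.key c.A).card) = (C.cells.map LCell.i).map
      (fun i => ∑ L ∈ (Finset.univ : Finset P.Vs).filter (fun L : P.Vs => Lead i (L : Fin m → K)), P.mu ψ Sy.R L) by
    rw [List.map_map]
    exact List.map_congr_left fun c hc => (lead_cell hR hchk hK hF hkey hc).symm,
    ← List.sum_toFinset _ hnd]
  refine (Finset.sum_subset (Finset.subset_univ _) fun i _ hi => ?_).symm
  simp only [exhaust, List.all_eq_true, List.mem_finRange, forall_const, Bool.or_eq_true, decide_eq_true_eq,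
    List.contains_eq_mem] at hex
  rw [List.mem_toFinset] at hi
  rcases hex i with (h | h) | h
  · refine Finset.sum_eq_zero fun L hL => absurd (Finset.mem_filter.1 hL).2 (lead_empty ?_ L)
    rw [hR.τ_eq]; exact h
  · exact absurd h hi
  · obtain ⟨c, hc, rfl⟩ := List.mem_map.1 h
    exact lead_pcell hR hchk hkey hc

end Plan

end Cfsg.Agent.TwSpec
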