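/-
Orbit vectors generate the symmetrical vectors; subsystems of positions; invariant subspaces.
-/
import Cfsg.Agent.Lib.MinDegree.Tw.Plan

set_option autoImplicit false

namespace Cfsg.Agent.TwSpec

open LinearMap Module Cfsg.Agent.Chev Cfsg.Agent.Heis

namespace Fr

variable {K : Type*} [Field K] {m : ℕ} (P : Fr K m)

/-- the orbit vectors generate -/
theorem induction {p : (Fin m → K) → Prop} (h0 : p 0) (horb : ∀ i t, P.Ok i t → p (P.orbV i t))
    (hadd : ∀ v w, v ∈ P.Vs → w ∈ P.Vs → p v → p w → p (v + w)) {v : Fin m → K} (hv : v ∈ P.Vs) : p v := by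
  classical
  suffices h : ∀ (S : Finset (Fin m)) (v : Fin m → K), v ∈ P.Vs → (∀ i, i ∉ S → v i = 0) → p v from
    h Finset.univ v hv fun i hi => absurd (Finset.mem_univ i) hi
  intro S
  induction S using Finset.strongInduction with
  | H S ih =>
    intro v hv hs
    rcases S.eq_empty_or_nonempty with rfl | ⟨i, hi⟩
    · rw [show v = 0 from funext fun j => hs j (by simp)]; exact h0
    have hok : P.Ok i (v i) := fun hf => P.fix_of_mem hv hf
    have ho := P.orbV_mem hok
    have hv' : v - P.orbV i (v i) ∈ P.Vs := sub_mem hv ho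
    have h' : p (v - P.orbV i (v i)) := by
      refine ih (S.erase i) (Finset.erase_ssubset hi) _ hv' fun j hj => ?_
      by_cases h1 : j = i
      · subst h1; simp [orbV_self]
      by_cases h2 : j = P.τ i
      · subst h2; simp [orbV, h1, P.mem_Vs.1 hv i]
      · simp [orbV, h1, h2, hs j fun h => hj (Finset.mem_erase.2 ⟨h1, h⟩)]
    have := hadd _ _ hv' ho h' (horb i _ hok)
    rwa [sub_add_cancel] at this

theorem orbV_eq {i : Fin m} (t : K) :
    P.orbV i t = Pi.single i t + if P.τ i = i then 0 else Pi.single (P.τ i) ((P.z i : K) * P.fr t) := by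
  funext j
  by_cases hf : P.τ i = i
  · simp only [orbV, hf, if_true, add_zero, Pi.single_apply]
    split_ifs <;> rfl
  · rw [if_neg hf]
    by_cases h1 : j = i
    · subst h1
      simp [orbV_self, Pi.single_eq_of_ne (Ne.symm hf)]
    by_cases h2 : j = P.τ i
    · subst h2; simp [orbV, h1]
    · simp [orbV, h1, h2]

end Fr

namespace Lay

variable {m : ℕ} {D : Lay m} {T : Tab} {S : ℕ → Bool}

theorem q_tau (h : D.chk T S = true) (k : Fin m) : D.q (D.tau k) = D.π (D.q k) := by
  simp only [chk, Bool.and_eq_true, List.all_eq_true, List.mem_finRange, forall_const, beq_iff_eq] at h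
  exact (h k).1.1.1.1.1

theorem comm (h : D.chk T S = true) {K Gb : Type*} [Field K] [Group Gb] (E : Grp T K Gb) (hS : E.S = S)
    (hdead : ∀ r ∈ D.dead, ∀ u, E.x r u = 1) (i j : Fin m) (hij : i ≠ j) (s t : K) :
    Commute (E.x (D.q i) s) (E.x (D.q j) t) := by
  subst hS
  simp only [chk, Bool.and_eq_true, List.all_eq_true, List.mem_finRange, forall_const, beq_iff_eq,
    Bool.or_eq_true] at h
  rcases of_into (((h i).2 j).resolve_left (Ne.symm hij)) with hc | ⟨r, hr, hc⟩
  · exact E.commute hc s t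
  · obtain ⟨C, -, hcm, -, -⟩ := E.bracket hc
    show _ = _
    rw [hcm, hdead r hr, mul_one]

end Lay

variable {K : Type*} [Field K] {m : ℕ} {Gb H W : Type*} [Group Gb] [Group H] [AddCommGroup W] [Module ℂ W]

theorem pi_orbV [Fintype K] {D : Lay m} {P : Fr K m} (hτ : P.τ = D.tau) (hz : P.z = D.sgn) {T : Tab}
    {E : Grp T K Gb} (hq : ∀ k, D.q (D.tau k) = D.π (D.q k)) (hinj : Function.Injective D.q)
    {y : Fin m → AddChar K Gb} (comm : ∀ i j, i ≠ j → ∀ s t, Commute (y i s) (y j t))
    (hy : ∀ k, y k = E.x (D.q k)) (k : Fin m) (t : K) :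
    piChar y comm (P.orbV k t) = orbEl E P.fr (D.q k) (D.π (D.q k)) (D.ζ (D.q k)) t := by
  rw [P.orbV_eq, AddChar.map_add_eq_mul, piChar_single, hy, orbEl, ← hq]
  by_cases hf : P.τ k = k
  · rw [if_pos hf, AddChar.map_zero_eq_one, show D.tau k = k by rw [← hτ]; exact hf, beq_self_eq_true, cond_true]
  · rw [if_neg hf, piChar_single, hy, beq_eq_false_iff_ne.2 (fun e => hf (by rw [hτ]; exact (hinj e).symm)), cond_false,
      hτ, hz]
    rfl

/-- An action on the symmetrical vectors from the membership of the orbit elements. -/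
noncomputable def Sys.ofLay [Fintype K] {D : Lay m} {T : Tab} (E : Grp T K Gb) (P : Fr K m) (hτ : P.τ = D.tau)
    (hz : P.z = D.sgn) (hq : ∀ k, D.q (D.tau k) = D.π (D.q k)) (hinj : Function.Injective D.q)
    (hcomm : ∀ i j, i ≠ j → ∀ s t, Commute (E.x (D.q i) s) (E.x (D.q j) t)) (ι : H →* Gb)
    (f : H →* Module.End ℂ W) (ker : ∀ h, ι h = 1 → f h = 1)
    (horb : ∀ k t, P.Ok k t → ∃ h, ι h = orbEl E P.fr (D.q k) (D.π (D.q k)) (D.ζ (D.q k)) t) :
    Sys P Gb H W where
  y k := E.x (D.q k)
  comm := hcomm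
  ι := ι
  f := f
  ker := ker
  mem v hv := by
    refine P.induction (p := fun v => ∃ h, ι h = piChar (fun k => E.x (D.q k)) hcomm v) ?_ (fun i t hok => ?_)
      (fun a b _ _ ha hb => ?_) hv
    · exact ⟨1, by rw [map_one, AddChar.map_zero_eq_one]⟩
    · obtain ⟨h, hh⟩ := horb i t hok
      exact ⟨h, hh.trans (pi_orbV hτ hz hq hinj hcomm (fun _ => rfl) i t).symm⟩
    · obtain ⟨a', ha'⟩ := ha
      obtain ⟨b', hb'⟩ := hb
      exact ⟨a' * b', by rw [map_mul, ha', hb', AddChar.map_add_eq_mul]⟩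

namespace Sys

variable {P : Fr K m} (S : Sys P Gb H W) {m' : ℕ} {P' : Fr K m'} {e : Fin m' → Fin m}

theorem R_sub [Fintype K] [DecidableEq K] (S' : Sys P' Gb H W) (he : P.Emb P' e) (hι : S'.ι = S.ι)
    (hf : S'.f = S.f) (hy : ∀ j, S'.y j = S.y (e j)) : S'.R = S.R.compAddMonoidHom (Fr.ext he) := by
  refine DFunLike.ext _ _ fun v => ?_
  obtain ⟨h, hh⟩ := S.mem _ (Fr.ext he v).2
  have key : S'.Y v = S.Y (Function.extend e (v : Fin m' → K) 0) := by
    let ex : (Fin m' → K) →+ (Fin m → K) :=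
      { toFun := fun w => Function.extend e w 0
        map_zero' := by
          funext i
          by_cases h : ∃ j, e j = i
          · obtain ⟨j, rfl⟩ := h; simp [he.inj.extend_apply]
          · simp [Function.extend_apply' _ _ _ h]
        map_add' := fun a b => by
          funext i
          by_cases h : ∃ j, e j = i
          · obtain ⟨j, rfl⟩ := h; simp [he.inj.extend_apply]
          · simp [Function.extend_apply' _ _ _ h] }
    refine Heis.pi_ext (a := S'.Y) (b := S.Y.compAddMonoidHom ex) (fun j t => ?_) (v : Fin m' → K)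
    rw [S'.Y_single, hy, AddChar.compAddMonoidHom_apply, show ex (Pi.single j t) = Pi.single (e j) t from ?_,
      S.Y_single]
    funext i
    show Function.extend e (Pi.single j t) 0 i = _
    by_cases h : ∃ j', e j' = i
    · obtain ⟨j', rfl⟩ := h
      rw [he.inj.extend_apply]
      by_cases hjj : j' = j
      · subst hjj; simp
      · rw [Pi.single_eq_of_ne hjj, Pi.single_eq_of_ne fun c => hjj (he.inj c)]
    · rw [Function.extend_apply' _ _ _ h, Pi.single_eq_of_ne fun c => h ⟨j, c.symm⟩]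
      rfl
  rw [AddChar.compAddMonoidHom_apply, S.R_eq (h := h) hh, ← hf]
  exact S'.R_eq (by rw [hι, key]; exact hh)

end Sys

/-- multiplicities along a bijection of two actions -/
theorem mult_transport {α β W : Type*} [AddCommGroup α] [Fintype α] [AddCommGroup β] [Fintype β] [AddCommGroup W]
    [Module ℂ W] [FiniteDimensional ℂ W] {R1 : AddChar α (Module.End ℂ W)} {R2 : AddChar β (Module.End ℂ W)}
    {g g' : Module.End ℂ W} (hg : g * g' = 1) {c : α →+ β} (hc : Function.Bijective c)
    (h : ∀ a, g' * R2 (c a) * g = R1 a) (χ : AddChar β ℂ) :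
    ReeRep.mult R1 (χ.compAddMonoidHom c) = ReeRep.mult R2 χ := by
  have e : g' * ReeRep.proj R2 χ * g = ReeRep.proj R1 (χ.compAddMonoidHom c) := by
    rw [ReeRep.proj, ReeRep.proj, mul_smul_comm, smul_mul_assoc, Finset.mul_sum, Finset.sum_mul,
      Fintype.card_congr (Equiv.ofBijective c hc)]
    congr 1
    refine (Fintype.sum_bijective c hc _ _ fun a => ?_).symm
    rw [mul_smul_comm, smul_mul_assoc, h, AddChar.compAddMonoidHom_apply, map_neg]
  have e2 := congrArg (trace ℂ W) e
  rw [trace_mul_comm, ← mul_assoc, hg, one_mul, ReeRep.trace_proj, ReeRep.trace_proj] at e2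
  exact_mod_cast e2.symm

/-- multiplicities on an invariant subspace containing the eigenspace -/
theorem mult_sub {α β W : Type*} [AddCommGroup α] [Fintype α] [AddCommGroup β] [Fintype β] [AddCommGroup W]
    [Module ℂ W] {U : Submodule ℂ W} {R : AddChar α (Module.End ℂ W)} {R' : AddChar β (Module.End ℂ U)}
    {χ : AddChar α ℂ} {χ' : AddChar β ℂ}
    (h1 : ∀ x : W, (∀ v, R v x = χ v • x) → ∃ hx : x ∈ U, ∀ w, R' w ⟨x, hx⟩ = χ' w • (⟨x, hx⟩ : U))
    (h2 : ∀ x : U, (∀ w, R' w x = χ' w • x) → ∀ v, R v (x : W) = χ v • (x : W)) :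
    ReeRep.mult R' χ' = ReeRep.mult R χ := by
  refine LinearEquiv.finrank_eq
    { toFun := fun x => ⟨((x : U) : W), (Heis.mem_range_proj _ _).2 (h2 _ ((Heis.mem_range_proj _ _).1 x.2))⟩
      map_add' := fun _ _ => rfl
      map_smul' := fun _ _ => rfl
      invFun := fun x => ⟨⟨(x : W), (h1 _ ((Heis.mem_range_proj _ _).1 x.2)).1⟩,
        (Heis.mem_range_proj _ _).2 (h1 _ ((Heis.mem_range_proj _ _).1 x.2)).2⟩
      left_inv := fun _ => rfl
      right_inv := fun _ => rfl }

end Cfsg.Agent.TwSpec
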